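import Cfsg.Agent.H668.XZ.C2

/-!
# S4791 + S4927, C layer, part 3 (helper668)

* `restrict_of_norm` : the constituents of a character `π` of `A` with `(π, π)_A = (π_S, π_S)_S` have irreducible and pairwise
  different restrictions to `S`.
* `comm_mem_hull`, `ker_eq_index` : consequences of `AbOut`.
* `row0_of_gallagher`.
-/

set_option autoImplicit false
set_option linter.unusedSectionVars false

open Cfsg Subgroup Cfsg.Agent.H508.KB Cfsg.Agent.H674.XZ
open scoped ComplexConjugate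

namespace Cfsg.Agent.H668.XZ

universe u

open Cfsg.Agent.Characters.Core
open Cfsg.Agent.Blocks.Local

variable {p : ℕ} [hp : Fact p.Prime] {M : Ideal AlgInt}

omit hp in
/-- constituents of a character with the same norm on a subgroup -/
theorem restrict_of_norm {A : Type u} [Group A] [Finite A] (S : Subgroup A) {π : A → ℂ} (hπ : IsCharacter A π)
    (h : ip π π = ip (fun x : S => π x) (fun x : S => π x)) {χ : IrrCharacter A} (hχ : ip π (χ : A → ℂ) ≠ 0) :
    IsIrrCharacter S (fun x : S => (χ : A → ℂ) x) ∧ ∀ χ' : IrrCharacter A, ip π (χ' : A → ℂ) ≠ 0 →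
      ip (fun x : S => (χ : A → ℂ) x) (fun x : S => (χ' : A → ℂ) x) ≠ 0 → χ = χ' := by
  classical
  let : Fintype A := Fintype.ofFinite _
  let : Fintype S := Fintype.ofFinite _
  have hfin : Finite (IrrCharacter A) := finite_irr
  let : Fintype (IrrCharacter A) := Fintype.ofFinite _
  obtain ⟨b, hb⟩ := exists_nat_comb hπ
  have hbχ : ∀ ζ : IrrCharacter A, ip π (ζ : A → ℂ) = b ζ := by
    intro ζ
    rw [ip_eq, hb, classInner_sum_nsmul_irr]
  have hr : ∀ ζ : IrrCharacter A, IsCharacter S (fun x : S => (ζ : A → ℂ) x) := fun ζ =>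
    isCharacter_comp S.subtype (isIrr_isCharacter ζ.2)
  choose c hc using fun (ζ η : IrrCharacter A) => ip_nat (hr ζ) (hr η)
  -- the norm on `A`
  have e0 : ip π π = ((∑ ζ : IrrCharacter A, b ζ * b ζ : ℕ) : ℂ) := by
    rw [ip_eq]
    conv_lhs => arg 2; rw [hb]
    rw [classInner_sum_right]
    push_cast
    refine Finset.sum_congr rfl fun ζ _ => ?_
    rw [← Nat.cast_smul_eq_nsmul ℂ, classInner_smul_right, map_natCast, ← ip_eq, hbχ]
  -- the norm on `S`
  have e1 : (fun x : S => π x) = ∑ ζ : IrrCharacter A, (b ζ : ℂ) • (fun x : S => (ζ : A → ℂ) x) := by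
    funext x
    have h1 := congrFun hb (x : A)
    simp only [Finset.sum_apply, Pi.smul_apply, nsmul_eq_mul, smul_eq_mul] at h1 ⊢
    exact h1
  have e2 : ip (fun x : S => π x) (fun x : S => π x) =
      ((∑ ζ : IrrCharacter A, ∑ η : IrrCharacter A, b ζ * b η * c ζ η : ℕ) : ℂ) := by
    rw [ip_eq, e1, classInner_sum_left]
    push_cast
    refine Finset.sum_congr rfl fun ζ _ => ?_
    rw [classInner_smul_left, classInner_sum_right, Finset.mul_sum]
    refine Finset.sum_congr rfl fun η _ => ?_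
    rw [classInner_smul_right, map_natCast, ← ip_eq, hc]
    ring
  rw [e0, e2] at h
  have h1 : ∑ ζ : IrrCharacter A, b ζ * b ζ = ∑ ζ : IrrCharacter A, ∑ η : IrrCharacter A, b ζ * b η * c ζ η := by
    exact_mod_cast h
  have hc1 : ∀ ζ : IrrCharacter A, 1 ≤ c ζ ζ := by
    intro ζ
    rw [Nat.one_le_iff_ne_zero]
    intro h0
    have h2 := hc ζ ζ
    rw [h0, Nat.cast_zero, ip_eq] at h2
    have h3 := congrFun (classInner_self_eq_zero h2) 1
    exact isIrr_apply_one_ne_zero ζ.2 h3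
  -- termwise comparison
  have h2 : ∀ ζ : IrrCharacter A, b ζ * b ζ ≤ ∑ η : IrrCharacter A, b ζ * b η * c ζ η := by
    intro ζ
    refine le_trans ?_ (Finset.single_le_sum (f := fun η : IrrCharacter A => b ζ * b η * c ζ η)
      (fun η _ => Nat.zero_le _) (Finset.mem_univ ζ))
    exact Nat.le_mul_of_pos_right _ (hc1 ζ)
  have h3 : ∀ ζ : IrrCharacter A, b ζ * b ζ = ∑ η : IrrCharacter A, b ζ * b η * c ζ η := by
    intro ζ
    exact (Finset.sum_eq_sum_iff_of_le (fun ζ _ => h2 ζ)).1 h1 ζ (Finset.mem_univ ζ)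
  have hbχ0 : b χ ≠ 0 := by
    intro h0
    apply hχ
    rw [hbχ, h0, Nat.cast_zero]
  have h4 : ∀ ζ η : IrrCharacter A, b ζ ≠ 0 → b η ≠ 0 → ζ ≠ η → c ζ η = 0 := by
    intro ζ η hζ hη hne
    have h5 := h3 ζ
    rw [← Finset.add_sum_erase _ _ (Finset.mem_univ ζ)] at h5
    have h6 : b ζ * b ζ ≤ b ζ * b ζ * c ζ ζ := Nat.le_mul_of_pos_right _ (hc1 ζ)
    have h7 : ∑ η ∈ Finset.univ.erase ζ, b ζ * b η * c ζ η = 0 := by omega
    have h8 := (Finset.sum_eq_zero_iff.1 h7) η (Finset.mem_erase.2 ⟨hne.symm, Finset.mem_univ _⟩)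
    rcases Nat.mul_eq_zero.1 h8 with h9 | h9
    · rcases Nat.mul_eq_zero.1 h9 with h10 | h10
      · exact absurd h10 hζ
      · exact absurd h10 hη
    · exact h9
  have h5 : c χ χ = 1 := by
    have h6 := h3 χ
    have h7 : b χ * b χ * c χ χ ≤ ∑ η : IrrCharacter A, b χ * b η * c χ η :=
      Finset.single_le_sum (f := fun η : IrrCharacter A => b χ * b η * c χ η)
        (fun η _ => Nat.zero_le _) (Finset.mem_univ χ)
    rw [← h6] at h7
    have h8 : 0 < b χ * b χ := Nat.mul_pos (Nat.pos_of_ne_zero hbχ0) (Nat.pos_of_ne_zero hbχ0)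
    have h9 : c χ χ ≤ 1 := Nat.le_of_mul_le_mul_left (by rwa [mul_one]) h8
    exact le_antisymm h9 (hc1 χ)
  refine ⟨?_, ?_⟩
  · refine (isIrr_iff_classInner_self (hr χ)).2 ?_
    rw [← ip_eq, hc, h5, Nat.cast_one]
  · intro χ' hχ' hne
    by_contra hcon
    have hb' : b χ' ≠ 0 := by
      intro h0
      apply hχ'
      rw [hbχ, h0, Nat.cast_zero]
    apply hne
    rw [hc, h4 χ χ' hbχ0 hb' hcon, Nat.cast_zero]

omit hp in
/-- transport of the number of members of `X0` -/
theorem x0_congr {S T : Type u} [Group S] [Group T] [Finite S] (e : S ≃* T) : x0 p M S = x0 p M T := by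
  have : Finite T := Finite.of_equiv _ e.toEquiv
  refine Nat.card_congr
    { toFun := fun χ => ⟨⟨fun g => (χ.1 : S → ℂ) (e.symm g), isIrr_comp e.symm.toMonoidHom e.symm.surjective χ.1.2⟩,
        mem0_comp e.symm χ.2⟩
      invFun := fun χ => ⟨⟨fun g => (χ.1 : T → ℂ) (e g), isIrr_comp e.toMonoidHom e.surjective χ.1.2⟩,
        mem0_comp e χ.2⟩
      left_inv := ?_
      right_inv := ?_ }
  · intro χ
    apply Subtype.ext
    apply Subtype.ext
    funext g
    show (χ.1 : S → ℂ) (e.symm (e g)) = (χ.1 : S → ℂ) g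
    rw [e.symm_apply_apply]
  · intro χ
    apply Subtype.ext
    apply Subtype.ext
    funext g
    show (χ.1 : T → ℂ) (e (e.symm g)) = (χ.1 : T → ℂ) g
    rw [e.apply_symm_apply]

section AB

variable {A : Type u} [Group A] [Finite A] (T : Subgroup A) [T.Normal] {S : Type u} [Group S] [Finite S] (e : S ≃* T)

include e in
theorem comm_mem_hull (hab : AbOut p S) (hcen : centralizer (T : Set A) = ⊥)
    (hcop : ¬ p ∣ T.index) (a b : A) : a * b * a⁻¹ * b⁻¹ ∈ hull p T :=
  H191.KB.Crit.comm_mem_hull T e hab hcen hcop a b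

theorem ker_eq_index (hM : IsPModular p M) (hcop : ¬ p ∣ T.index)
    (hab : ∀ a b : A, a * b * a⁻¹ * b⁻¹ ∈ hull p T) : ker M T = (hull p T).index :=
  H191.KB.Crit.ker_eq_index T (H191.KB.deps hM) hcop hab

end AB

/-- **The rows, from Gallagher's theorem.** -/
theorem row0_of_gallagher (hM : IsPModular p M) {S : Type u} [Group S] [Finite S] (hpS : p ∣ Nat.card S)
    (hab : AbOut p S)
    (h : ∀ (A : Type u) [Group A] [Finite A] (T : Subgroup A) [T.Normal], (S ≃* ↥T) →
      centralizer (T : Set A) = ⊥ → ¬ p ∣ T.index → (∀ a b : A, a * b * a⁻¹ * b⁻¹ ∈ hull p T) →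
      ∃ (R : ℕ) (χ : Fin R → IrrCharacter A) (W : Set (IrrCharacter A)), 1 ≤ R ∧ (∀ i, Mem0 p M (χ i)) ∧
        (∀ i, IsIrrCharacter T (fun x : T => (χ i : A → ℂ) x)) ∧
        (∀ i j, (∀ x ∈ T, (χ i : A → ℂ) x = (χ j : A → ℂ) x) → i = j) ∧ (∀ ψ ∈ W, Mem0 p M ψ) ∧
        (∀ i, ∀ l : A →* ℂˣ, (∀ x ∈ hull p T, l x = 1) → twist l (χ i) ∉ W) ∧
        p - 1 ≤ (hull p T).index * (R - 1) * (W.ncard + 1) ∧
        (2 ≤ (hull p T).index ∨ (hull p T).index * (R - 1) ≠ W.ncard + 1 ∨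
          p - 1 < (hull p T).index * (R - 1) * (W.ncard + 1))) : Row0 p M S := by
  refine row0_of hM hpS fun A _ _ T _ e hcen hcop => ?_
  have hcomm := comm_mem_hull T e hab hcen hcop
  obtain ⟨R, χ, W, h1, h2, h3, h4, h5, h6, h7, h8⟩ := h A T e hcen hcop hcomm
  have h9 := gallagher_le T hM hcop hcomm χ h2 h3 h4 W h5 h6
  rw [Nat.card_fin] at h9
  have h10 : 1 ≤ (hull p T).index := Nat.pos_of_ne_zero index_ne_zero_of_finite
  exact arith_row h10 h1 (ker_eq_index T hM hcop hcomm) h9 h7 h8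

/-- at least one member for each orbit -/
theorem kap0_le_of_cnt (hM : IsPModular p M) {A : Type u} [Group A] [Finite A] (S : Subgroup A) [S.Normal]
    (hcop : ¬ p ∣ S.index) (hpS : p ∣ Nat.card S) {t n : ℕ} (ht : 1 ≤ t) (h : Cnt p M S t n) : kap0 p M S ≤ n := by
  obtain ⟨g, h1, h2⟩ := h
  have h3 := two_le_kap0 S hM hcop hpS
  have h4 := one_le_ker0 S hM
  have h5 := ker_add_kap_le0 S hM hcop
  have h6 := H270.KB.choose_ge' (κ := kap0 p M S) (t := t) (by omega)
  have h7 : 1 * (kap0 p M S - 1) ≤ t * (kap0 p M S - 1) := Nat.mul_le_mul_right _ ht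
  have h8 : 1 ≤ g := by
    rcases Nat.eq_zero_or_pos g with rfl | h
    · omega
    · exact h
  omega

/-- the row from the number of orbits -/
theorem row0_of_kap0 (hM : IsPModular p M) {S : Type u} [Group S] [Finite S] (hpS : p ∣ Nat.card S)
    (h : ∀ (A : Type u) [Group A] [Finite A] (T : Subgroup A) [T.Normal], (S ≃* ↥T) →
      centralizer (T : Set A) = ⊥ → ¬ p ∣ T.index → 4 * (p - 1) < kap0 p M T ^ 2) : Row0 p M S := by
  intro A _ _ T _ ⟨e⟩ h1 h2 t n h3 h4
  have h5 := kap0_le_of_cnt hM T h2 (by rwa [← Nat.card_congr e.toEquiv]) h3 h4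
  exact (h A T e h1 h2).trans_le (Nat.pow_le_pow_left h5 2)

/-- the row from `x0(S)` and the order of the outer automorphism group: `x0(S) ≥ d m + 1`, `|A : S| ≤ d`, `(m + 1)² > 4 (p - 1)` -/
theorem row0_of_inn (hM : IsPModular p M) {S : Type u} [Group S] [Finite S] (hpS : p ∣ Nat.card S) (d m : ℕ)
    (hd : (MulAut.conj : S →* MulAut S).range.index ≤ d) (hk : d * m + 1 ≤ x0 p M S) (hm : 4 * (p - 1) < (m + 1) ^ 2) :
    Row0 p M S := by
  refine row0_of_kap0 hM hpS fun A _ _ T _ e hcen hcop => ?_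
  have h1 := x0_le0 T hM hcop
  have h2 : x0 p M S = x0 p M ↥T := x0_congr e
  have h3 : (hull p T).index ≤ d := by
    refine le_trans ?_ hd
    refine le_trans ?_ (H191.KB.Crit.index_le T e hcen)
    exact Nat.le_of_dvd (Nat.pos_of_ne_zero index_ne_zero_of_finite) (Subgroup.index_dvd_of_le le_sup_left)
  have h4 := two_le_kap0 T hM hcop (by rwa [← Nat.card_congr e.toEquiv])
  have h5 : m ≤ kap0 p M T - 1 := by
    rcases Nat.eq_zero_or_pos d with rfl | hd0
    · have h6 : (hull p T).index ≠ 0 := index_ne_zero_of_finite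
      omega
    · have h6 : d * m ≤ d * (kap0 p M T - 1) := by
        have h7 : (hull p T).index * (kap0 p M T - 1) ≤ d * (kap0 p M T - 1) := Nat.mul_le_mul_right _ h3
        omega
      exact Nat.le_of_mul_le_mul_left h6 hd0
  exact hm.trans_le (Nat.pow_le_pow_left (by omega) 2)

end Cfsg.Agent.H668.XZ
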