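import Cfsg.Agent.H668.XZ.C
import Cfsg.Agent.H674.XZ.Base
import Cfsg.Agent.H546.KB.Three
import Cfsg.Agent.H426.KB.C1
import Cfsg.Agent.H270.KB.Arith

/-!
# S4791 + S4927, C layer, part 2 (helper668)

* `count0` : members of `X0(A)` over the orbits outside a finite set, in addition to given members.
* `ker_add_kap_le0` : `ker + kap0 ≤ x0(A) + 1`.
* `x0_le0` : `x0(S) ≤ |A : hull| (kap0 - 1) + 1`.
* `two_le_x0`, `two_le_kap0`.
* `lt_of_cnt`, `le_of_cnt` : the final criterion.
* `Row0`, `row0_of`, `row0_of_ab`.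
-/

set_option autoImplicit false
set_option linter.unusedSectionVars false

open Cfsg Subgroup Cfsg.Agent.H508.KB Cfsg.Agent.H674.XZ
open scoped ComplexConjugate

namespace Cfsg.Agent.H668.XZ

universe u

open Cfsg.Agent.Characters.Core
open Cfsg.Agent.Blocks.Local Cfsg.Agent.Blocks.Basic

variable {p : ℕ} [hp : Fact p.Prime] {M : Ideal AlgInt}

section count

variable {A : Type u} [Group A] [Finite A] (S : Subgroup A) [hS : S.Normal]

theorem finite_quot0 : Finite (Quotient (orbSetoid0 p M S)) := by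
  have hfin2 : Finite (IrrCharacter ↥S) := finite_irr
  exact Finite.of_surjective _ Quotient.mk_surjective

/-- the orbits outside a finite set, in addition to given members -/
theorem count0 (hM : IsPModular p M) (hcop : ¬ p ∣ S.index) {ι : Type*} [Finite ι]
    (F₀ : ι → {χ : IrrCharacter A // Mem0 p M χ})
    (hinj : Function.Injective F₀) (Q₀ : Finset (Quotient (orbSetoid0 p M S)))
    (h : ∀ (i : ι) (θ : {χ : IrrCharacter ↥S // Mem0 p M χ}), Over S (F₀ i).1 θ.1 → Quotient.mk (orbSetoid0 p M S) θ ∈ Q₀) :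
    Nat.card ι + kap0 p M S ≤ x0 p M A + Q₀.card := by
  classical
  have hfA : Fintype A := Fintype.ofFinite A
  have hfS : Fintype ↥S := Fintype.ofFinite _
  have hfin : Finite (IrrCharacter A) := finite_irr
  have hfin2 : Finite (IrrCharacter ↥S) := finite_irr
  have hfin3 : Finite (Quotient (orbSetoid0 p M S)) := finite_quot0 S
  obtain ⟨P⟩ : Nonempty (Sylow p A) := inferInstance
  have hPn : (P : Subgroup A) ≤ Subgroup.normalizer (S : Set A) := by
    rw [Subgroup.normalizer_eq_top]; exact le_top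
  choose χ hχ hover using fun q : Quotient (orbSetoid0 p M S) =>
    H656.OverPrincipal.exists_over hM S P hPn q.out.1 q.out.2.1
  have hmem : ∀ q, Mem0 p M (χ q) := fun q => mem0_of_over S hcop (χ q) (hχ q) q.out.1 (over_iff.2 (hover q)) q.out.2
  let F : ι ⊕ {q : Quotient (orbSetoid0 p M S) // q ∉ Q₀} → {χ : IrrCharacter A // Mem0 p M χ} :=
    Sum.elim F₀ (fun q => ⟨χ q.1, hmem q.1⟩)
  have hcross : ∀ (i : ι) (q : {q : Quotient (orbSetoid0 p M S) // q ∉ Q₀}), (F₀ i).1 ≠ χ q.1 := by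
    intro i q hiq
    apply q.2
    have h1 := h i q.1.out (over_iff.2 (by rw [hiq]; exact hover q.1))
    rwa [Quotient.out_eq] at h1
  have hF : Function.Injective F := by
    rintro (i | q) (j | q') hij
    · exact congrArg _ (hinj hij)
    · exact absurd (congrArg Subtype.val hij) (hcross i q')
    · exact absurd (congrArg Subtype.val hij).symm (hcross j q)
    · have h1 : χ q.1 = χ q'.1 := congrArg Subtype.val hij
      have h2 := hover q'.1
      rw [← h1] at h2
      obtain ⟨g, hg⟩ := Characters.Clifford.exists_conj_of_constituents S (χ q.1).2 q.1.out.1.2 q'.1.out.1.2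
        (hover q.1) h2
      congr 1
      apply Subtype.ext
      rw [← Quotient.out_eq q.1, ← Quotient.out_eq q'.1]
      exact Quotient.sound ⟨g, fun s => congrFun hg s⟩
  have h1 := Nat.card_le_card_of_injective F hF
  rw [Nat.card_sum] at h1
  have h2 : kap0 p M S ≤ Nat.card {q : Quotient (orbSetoid0 p M S) // q ∉ Q₀} + Q₀.card := by
    have := Fintype.ofFinite (Quotient (orbSetoid0 p M S))
    unfold kap0
    rw [Nat.card_eq_fintype_card, Nat.card_eq_fintype_card, Fintype.card_subtype_compl (fun q => q ∈ Q₀),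
      Fintype.card_coe]
    omega
  unfold x0
  omega

/-- characters in the principal block with `S` in the kernel are in `X0(A)` -/
theorem mem0_of_ker (hM : IsPModular p M) (hcop : ¬ p ∣ S.index) {χ : IrrCharacter A} (hχ : χ ∈ principalBlock M A)
    (hχS : ∀ s ∈ S, (χ : A → ℂ) s = (χ : A → ℂ) 1) : Mem0 p M χ := by
  have : M.IsPrime := isPrime_of_isPModular hM
  have hfS : Fintype ↥S := Fintype.ofFinite _
  refine mem0_of_over S hcop χ hχ ⟨fun _ => 1, isIrrCharacter_one⟩ ?_ (mem0_one S)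
  rw [over_iff]
  have h1 : (fun n : ↥S => (χ : A → ℂ) n) = (χ : A → ℂ) 1 • (fun _ : S => (1 : ℂ)) := by
    funext n
    rw [Pi.smul_apply, smul_eq_mul, mul_one]
    exact hχS n n.2
  rw [h1, classInner_smul_left, classInner_irr_self isIrrCharacter_one, mul_one]
  exact isIrr_apply_one_ne_zero χ.2

/-- C3 -/
theorem ker_add_kap_le0 (hM : IsPModular p M) (hcop : ¬ p ∣ S.index) : ker M S + kap0 p M S ≤ x0 p M A + 1 := by
  classical
  have hMp : M.IsPrime := isPrime_of_isPModular hM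
  have hfin : Finite (IrrCharacter A) := finite_irr
  have h := count0 S hM hcop (ι := H546.KB.Ker S M) (fun χ => ⟨χ.1, mem0_of_ker S hM hcop χ.2.1 χ.2.2⟩)
    (fun χ χ' h => Subtype.ext (congrArg (fun x : {χ : IrrCharacter A // Mem0 p M χ} => x.1) h))
    {Quotient.mk (orbSetoid0 p M S) ⟨⟨fun _ => 1, isIrrCharacter_one⟩, mem0_one S⟩} (by
    intro χ θ ho
    rw [Finset.mem_singleton]
    congr 1
    apply Subtype.ext
    apply Subtype.ext
    exact H546.KB.over_one S χ.2.2 ho)
  rwa [Finset.card_singleton] at h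

theorem ker_le0 (hM : IsPModular p M) (hcop : ¬ p ∣ S.index) : ker M S ≤ x0 p M A := by
  have hfin : Finite (IrrCharacter A) := finite_irr
  refine Nat.card_le_card_of_injective
    (fun χ => (⟨χ.1, mem0_of_ker S hM hcop χ.2.1 χ.2.2⟩ : {χ : IrrCharacter A // Mem0 p M χ})) ?_
  intro χ χ' h
  exact Subtype.ext (congrArg (fun x : {χ : IrrCharacter A // Mem0 p M χ} => x.1) h)

/-- an orbit has at most `|A : hull|` elements -/
theorem card_orbit_le0 (hM : IsPModular p M) (hcop : ¬ p ∣ S.index) (x : {χ : IrrCharacter ↥S // Mem0 p M χ}) :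
    Nat.card {y : {χ : IrrCharacter ↥S // Mem0 p M χ} // (orbSetoid0 p M S) x y} ≤ (hull p S).index := by
  classical
  have hch : ∀ y : {y : {χ : IrrCharacter ↥S // Mem0 p M χ} // (orbSetoid0 p M S) x y}, ∃ a : A, ∀ s : ↥S,
      (y.1.1 : ↥S → ℂ) s = (x.1 : ↥S → ℂ) (MulAut.conjNormal a s) := fun y => y.2
  choose f hf using hch
  refine Nat.card_le_card_of_injective (β := A ⧸ hull p S) (fun y => ((f y)⁻¹ : A)) ?_
  intro y z hyz
  have h1 : (f y)⁻¹⁻¹ * (f z)⁻¹ ∈ hull p S := QuotientGroup.eq.1 hyz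
  rw [inv_inv] at h1
  have h2 := H426.KB.hull_le_stab S hM hcop x.1 x.2.1 h1
  apply Subtype.ext
  apply Subtype.ext
  apply Subtype.ext
  funext s
  rw [hf y s, hf z s, ← h2 (MulAut.conjNormal (f z) s), ← MulAut.mul_apply, ← map_mul, inv_mul_cancel_right]

/-- C1 -/
theorem x0_le0 (hM : IsPModular p M) (hcop : ¬ p ∣ S.index) :
    x0 p M ↥S ≤ (hull p S).index * (kap0 p M S - 1) + 1 := by
  classical
  have : M.IsPrime := isPrime_of_isPModular hM
  have : Finite (IrrCharacter ↥S) := finite_irr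
  let x : {χ : IrrCharacter ↥S // Mem0 p M χ} := ⟨⟨fun _ => 1, isIrrCharacter_one⟩, mem0_one S⟩
  have h := H426.KB.card_le_of_classes (orbSetoid0 p M S) (hull p S).index (card_orbit_le0 S hM hcop)
    {Quotient.mk (orbSetoid0 p M S) x} (by
      intro q hq
      rw [Finset.mem_singleton] at hq
      refine ⟨x, hq.symm, ?_⟩
      rintro y ⟨a, ha⟩
      apply Subtype.ext
      apply Subtype.ext
      funext s
      exact ha s)
  rw [Finset.card_singleton] at h
  exact h

end count

/-- the sum of the squares of the degrees in `X0(G)` is divisible by `p`; so there is a nontrivial member -/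
theorem two_le_x0 (hM : IsPModular p M) {G : Type u} [Group G] [Finite G] (hpG : p ∣ Nat.card G) : 2 ≤ x0 p M G := by
  classical
  have hMp : M.IsPrime := isPrime_of_isPModular hM
  have hfin : Finite (IrrCharacter G) := finite_irr
  let : Fintype G := Fintype.ofFinite G
  obtain ⟨P⟩ : Nonempty (Sylow p G) := inferInstance
  have hF := FV.perm hM P G
  have hPne : ∃ x ∈ (P : Subgroup G), x ≠ 1 := by
    by_contra hcon
    push Not at hcon
    have h1 : (P : Subgroup G) = ⊥ := (Subgroup.eq_bot_iff_forall _).2 hcon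
    have h2 : p ∣ Nat.card (P : Subgroup G) := P.dvd_card_of_dvd_card hpG
    rw [h1, Subgroup.card_bot] at h2
    exact hp.out.one_lt.ne' (Nat.dvd_one.1 h2)
  have hc : Cfsg.Agent.H145.BR.cnt (P : Subgroup G) G = 0 := by
    obtain ⟨x, hx, hx1⟩ := hPne
    have hE : IsEmpty {y : G // ∀ g ∈ (P : Subgroup G), g • y = y} := by
      refine ⟨fun y => hx1 ?_⟩
      have h1 : x * y.1 = y.1 := y.2 x hx
      exact mul_eq_right.1 h1
    unfold Cfsg.Agent.H145.BR.cnt
    rw [Nat.card_eq_zero]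
    left
    refine ⟨fun q => ?_⟩
    obtain ⟨y, -⟩ := Quot.exists_rep q
    exact hE.false y
  rw [hc, Nat.cast_zero] at hF
  obtain ⟨m, h1, -⟩ := hF.int
  have h2 := hF.sum_mem0 h1
  by_contra hlt
  push Not at hlt
  -- only the trivial character
  let one : IrrCharacter G := ⟨fun _ => 1, isIrrCharacter_one⟩
  have hone : Mem0 p M one := mem0_one G
  have huniq : ∀ χ : IrrCharacter G, Mem0 p M χ → χ = one := by
    intro χ hχ
    have hfin' := finite_mem0 (p := p) (M := M) (G := G)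
    have h3 : Nat.card {χ : IrrCharacter G // Mem0 p M χ} ≤ 1 := Nat.lt_succ_iff.1 hlt
    have h4 := Finite.card_le_one_iff_subsingleton.1 h3
    exact congrArg Subtype.val (Subsingleton.elim (⟨χ, hχ⟩ : {χ : IrrCharacter G // Mem0 p M χ}) ⟨one, hone⟩)
  have h3 : xsum p M m = m one := by
    let : Fintype (IrrCharacter G) := Fintype.ofFinite _
    unfold xsum
    have h4 : charDegree (one : G → ℂ) = 1 := by
      show ⌊((1 : ℂ)).re⌋₊ = 1
      simp
    rw [Finset.sum_eq_single one]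
    · rw [if_pos hone, h4, Nat.cast_one, mul_one]
    · intro χ _ hχ
      rw [if_neg fun h => hχ (huniq χ h)]
    · exact fun h => absurd (Finset.mem_univ _) h
  have h4 : m one = 1 := by
    have h5 := h1 one
    have h6 : ip (Cfsg.Agent.H145.BR.permC G G) (one : G → ℂ) = 1 := by
      rw [ip_eq, Cfsg.Agent.Characters.Core.classInner_def]
      have h7 : ∀ g : G, Cfsg.Agent.H145.BR.permC G G g * conj ((one : G → ℂ) g) = if g = 1 then (Nat.card G : ℂ) else 0 := by
        intro g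
        show Cfsg.Agent.H145.BR.permC G G g * conj (1 : ℂ) = _
        rw [map_one, mul_one]
        unfold Cfsg.Agent.H145.BR.permC
        split_ifs with h
        · subst h
          have h8 : MulAction.fixedBy G (1 : G) = Set.univ := by
            ext x
            simp
          rw [h8, Nat.card_univ]
        · have h8 : MulAction.fixedBy G g = ∅ := by
            ext x
            simp only [MulAction.mem_fixedBy, smul_eq_mul, Set.mem_empty_iff_false, iff_false]
            intro h9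
            exact h (mul_eq_right.1 h9)
          rw [h8]
          simp
      rw [Finset.sum_congr rfl fun g _ => h7 g, Finset.sum_ite_eq' Finset.univ (1 : G), if_pos (Finset.mem_univ _),
        inv_mul_cancel₀ card_ne_zero_complex]
    rw [h6] at h5
    exact_mod_cast h5.symm
  rw [h3, h4] at h2
  have h5 : (p : ℤ) ∣ 1 := (Int.modEq_zero_iff_dvd).1 h2
  have h6 : p ∣ 1 := by exact_mod_cast h5
  exact hp.out.one_lt.ne' (Nat.dvd_one.1 h6)

section crit

variable {A : Type u} [Group A] [Finite A] (S : Subgroup A) [hS : S.Normal]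

theorem two_le_kap0 (hM : IsPModular p M) (hcop : ¬ p ∣ S.index) (hpS : p ∣ Nat.card S) : 2 ≤ kap0 p M S := by
  have h1 := x0_le0 S hM hcop
  have h2 := two_le_x0 hM hpS
  by_contra hlt
  have h3 : kap0 p M S - 1 = 0 := by omega
  rw [h3, mul_zero] at h1
  omega

/-- the multisets -/
theorem choose_lt {κ t : ℕ} (hκ : 2 ≤ κ) (ht : 2 ≤ t) : κ + 1 ≤ (κ + t - 1).choose t := by
  have h1 := H270.KB.choose_ge' (κ := κ) (t := t) (by omega)
  have h2 : 2 * (κ - 1) ≤ t * (κ - 1) := Nat.mul_le_mul_right _ ht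
  omega

theorem one_le_ker0 (hM : IsPModular p M) : 1 ≤ ker M S := by
  have hMp : M.IsPrime := hM.2.1.isPrime
  have hfin : Finite {χ : IrrCharacter A // χ ∈ principalBlock M A ∧ ∀ s ∈ S, (χ : A → ℂ) s = (χ : A → ℂ) 1} := by
    have := finite_irr (G := A)
    infer_instance
  have hne : Nonempty {χ : IrrCharacter A // χ ∈ principalBlock M A ∧ ∀ s ∈ S, (χ : A → ℂ) s = (χ : A → ℂ) 1} :=
    ⟨⟨⟨fun _ => 1, isIrrCharacter_one⟩, sameBlock_refl _, fun _ _ => rfl⟩⟩
  exact Nat.card_pos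

/-- the lower bound for `n` -/
theorem bound_of_cnt (hM : IsPModular p M) (hcop : ¬ p ∣ S.index) (hpS : p ∣ Nat.card S) {k t n : ℕ}
    (hk : k + ker M S ≤ x0 p M A) (ht : 1 ≤ t) (h : Cnt p M S t n) :
    (t = 1 ∧ x0 p M A ≤ n) ∨ (2 ≤ t ∧ k + 2 ≤ n) := by
  obtain ⟨g, h1, h2⟩ := h
  have h3 := two_le_kap0 S hM hcop hpS
  have h4 := one_le_ker0 S hM
  rcases Nat.lt_or_ge t 2 with h5 | h5
  · have h6 : t = 1 := by omega
    subst h6
    left
    refine ⟨rfl, ?_⟩
    rw [Nat.choose_one_right] at h2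
    omega
  · right
    refine ⟨h5, ?_⟩
    have h6 := choose_lt h3 h5
    have h7 : 1 ≤ g := by
      rcases Nat.eq_zero_or_pos g with rfl | h
      · omega
      · exact h
    omega

/-- **The final criterion**, strict form. -/
theorem lt_of_cnt (hM : IsPModular p M) (hcop : ¬ p ∣ S.index) (hpS : p ∣ Nat.card S) {k t n : ℕ}
    (hk : k + ker M S ≤ x0 p M A) (hk2 : 4 * (p - 1) < (k + 2) ^ 2) (hx : 4 * (p - 1) < x0 p M A ^ 2) (ht : 1 ≤ t)
    (h : Cnt p M S t n) : 4 * (p - 1) < n ^ 2 := by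
  rcases bound_of_cnt S hM hcop hpS hk ht h with ⟨-, h1⟩ | ⟨-, h1⟩
  · exact hx.trans_le (Nat.pow_le_pow_left h1 2)
  · exact hk2.trans_le (Nat.pow_le_pow_left h1 2)

/-- **The final criterion**, weak form. -/
theorem le_of_cnt (hM : IsPModular p M) (hcop : ¬ p ∣ S.index) (hpS : p ∣ Nat.card S) {k t n : ℕ}
    (hk : k + ker M S ≤ x0 p M A) (hk2 : 4 * (p - 1) ≤ (k + 2) ^ 2) (hx : 4 * (p - 1) ≤ x0 p M A ^ 2) (ht : 1 ≤ t)
    (h : Cnt p M S t n) : 4 * (p - 1) ≤ n ^ 2 := by
  rcases bound_of_cnt S hM hcop hpS hk ht h with ⟨-, h1⟩ | ⟨-, h1⟩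
  · exact hx.trans (Nat.pow_le_pow_left h1 2)
  · exact hk2.trans (Nat.pow_le_pow_left h1 2)

end crit

/-- **The rows** (noncyclic Sylow `p`-subgroups): the strict inequality for every number of components. -/
def Row0 (p : ℕ) (M : Ideal AlgInt) (S : Type u) [Group S] : Prop :=
  ∀ (A : Type u) [Group A] [Finite A] (T : Subgroup A) [T.Normal], Nonempty (S ≃* ↥T) →
    centralizer (T : Set A) = ⊥ → ¬ p ∣ T.index → ∀ t n : ℕ, 1 ≤ t → Cnt p M T t n → 4 * (p - 1) < n ^ 2

theorem Row0.congr {S S' : Type u} [Group S] [Group S'] (e : S ≃* S') (h : Row0 p M S') : Row0 p M S := by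
  intro A _ _ T _ ⟨f⟩ h1 h2 t n h3 h4
  exact h A T ⟨e.symm.trans f⟩ h1 h2 t n h3 h4

/-- the criterion -/
theorem row0_of (hM : IsPModular p M) {S : Type u} [Group S] (hpS : p ∣ Nat.card S)
    (h : ∀ (A : Type u) [Group A] [Finite A] (T : Subgroup A) [T.Normal], (S ≃* ↥T) →
      centralizer (T : Set A) = ⊥ → ¬ p ∣ T.index →
      ∃ k, k + ker M T ≤ x0 p M A ∧ 4 * (p - 1) < (k + 2) ^ 2 ∧ 4 * (p - 1) < x0 p M A ^ 2) : Row0 p M S := by
  intro A _ _ T _ ⟨e⟩ h1 h2 t n h3 h4
  obtain ⟨k, h5, h6, h7⟩ := h A T e h1 h2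
  exact lt_of_cnt T hM h2 (by rwa [← Nat.card_congr e.toEquiv]) h5 h6 h7 h3 h4

/-- arithmetic: `x0(A) ≥ d R + w` with `(R - 1) d (w + 1) ≥ p - 1` -/
theorem arith_row {p d R w x f : ℕ} (hd : 1 ≤ d) (hR : 1 ≤ R) (hf : f = d) (hx : d * R + w ≤ x)
    (hp : p - 1 ≤ d * (R - 1) * (w + 1)) (hst : 2 ≤ d ∨ d * (R - 1) ≠ w + 1 ∨ p - 1 < d * (R - 1) * (w + 1)) :
    ∃ k, k + f ≤ x ∧ 4 * (p - 1) < (k + 2) ^ 2 ∧ 4 * (p - 1) < x ^ 2 := by
  obtain ⟨r, rfl⟩ : ∃ r, R = r + 1 := ⟨R - 1, by omega⟩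
  rw [Nat.add_sub_cancel] at hp hst
  subst hf
  refine ⟨f * r + w, by rw [Nat.mul_add, mul_one] at hx; omega, ?_, ?_⟩
  · have h1 : 4 * (f * r * (w + 1)) ≤ (f * r + (w + 1)) ^ 2 := by
      have := four_mul_le_pow_two_add (f * r) (w + 1)
      linarith
    have h2 : (f * r + (w + 1)) ^ 2 < (f * r + w + 2) ^ 2 := Nat.pow_lt_pow_left (by omega) (by norm_num)
    omega
  · have h1 : 4 * (f * r * (w + 1)) ≤ (f * r + (w + 1)) ^ 2 := by
      have := four_mul_le_pow_two_add (f * r) (w + 1)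
      linarith
    have h3 : f * r + w + f ≤ x := by rw [Nat.mul_add, mul_one] at hx; omega
    rcases hst with h | h | h
    · have h2 : (f * r + (w + 1)) ^ 2 < x ^ 2 := Nat.pow_lt_pow_left (by omega) (by norm_num)
      omega
    · have h2 : (f * r + (w + 1)) ^ 2 ≤ x ^ 2 := Nat.pow_le_pow_left (by omega) 2
      have h4 : 4 * (f * r * (w + 1)) < (f * r + (w + 1)) ^ 2 := by
        rcases Nat.lt_or_gt_of_ne h with h5 | h5
        · nlinarith
        · nlinarith
      omega
    · have h2 : (f * r + (w + 1)) ^ 2 ≤ x ^ 2 := Nat.pow_le_pow_left (by omega) 2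
      omega

end Cfsg.Agent.H668.XZ
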