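import Cfsg.Agent.H674.XZ.Gal
import Cfsg.Agent.H508.KB.Defs

/-!
# S4791 + S4927, T layer: definitions (helper668)

`A` is a group with a normal subgroup `S` (in use: `A` almost simple with simple `S`, of index prime to `p`).

* `kap0 p M S` : the number of `A`-orbits on the members of `X0(S)` (`H508.KB.kap` with `Mem0` in place of `B₀`).
* `Cnt p M S t n` : the lower bound `n ≥ x0(A) - ker + C(kap0 + t - 1, t) - kap0 + g`, `ker ≤ t g` (`ker` = `H508.KB.ker`).
-/

set_option autoImplicit false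

open Cfsg Subgroup Cfsg.Agent.H674.XZ

namespace Cfsg.Agent.H668.XZ

universe u

section normal

variable {A : Type u} [Group A] (p : ℕ) (M : Ideal AlgInt) (S : Subgroup A) [S.Normal]

/-- conjugation by `A` on the members of `X0(S)` -/
def orbSetoid0 : Setoid {χ : IrrCharacter ↥S // Mem0 p M χ} where
  r χ ψ := ∃ a : A, ∀ s : ↥S, (ψ.1 : ↥S → ℂ) s = (χ.1 : ↥S → ℂ) (MulAut.conjNormal a s)
  iseqv := by
    refine ⟨fun χ => ⟨1, fun s => by rw [map_one]; rfl⟩, ?_, ?_⟩
    · rintro χ ψ ⟨a, h⟩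
      refine ⟨a⁻¹, fun s => ?_⟩
      rw [h, ← MulAut.mul_apply, ← map_mul, mul_inv_cancel, map_one]
      rfl
    · rintro χ ψ θ ⟨a, h⟩ ⟨b, h'⟩
      refine ⟨a * b, fun s => ?_⟩
      rw [h', h, ← MulAut.mul_apply, ← map_mul]

/-- the number of `A`-orbits on the members of `X0(S)` -/
noncomputable def kap0 : ℕ := Nat.card (Quotient (orbSetoid0 p M S))

/-- `n` is at least the number of members of `X0(G)` which comes from the pair `(A, S)`, `t` the number of the components -/
def Cnt (t n : ℕ) : Prop :=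
  ∃ g : ℕ, Cfsg.Agent.H508.KB.ker M S ≤ t * g ∧
    x0 p M A + (kap0 p M S + t - 1).choose t + g ≤ n + Cfsg.Agent.H508.KB.ker M S + kap0 p M S

end normal

end Cfsg.Agent.H668.XZ
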