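import Cfsg.Agent.H668.XZ.Up
import Cfsg.Agent.H668.XZ.Defs
import Cfsg.Agent.H819.KB.Prod

/-!
# S4791 + S4927, T0: product characters of `N = S ^ t` in `X0(N)` (helper668)

Port of `H819.KB.Prod` with `Mem0` in place of the principal block.
-/

set_option autoImplicit false

open Cfsg Subgroup Cfsg.Agent.H674.XZ
open Cfsg.Agent.Lib.MinNormalNonabelian Cfsg.Agent.H531.LemX
open scoped ComplexConjugate

namespace Cfsg.Agent.H668.XZ

open Cfsg.Agent.Blocks.Local Cfsg.Agent.Blocks.Basic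

universe u v

variable {p : ℕ} [hp : Fact p.Prime]

/-- an almost `p`-rational character and exponents of a group whose order is a multiple -/
theorem pow_eq_of_alm' {A : Type u} [Group A] [Finite A] {G : Type v} [Group G] [Finite G]
    (hAG : Nat.card A ∣ Nat.card G) {θ : A → ℂ} (hθ : IsCharacter A θ)
    (h : Alm p θ) {u : (ZMod (Nat.card G))ˣ} (hu : u ∈ JJ p G) (n : A) : θ (n ^ ex u) = θ n := by
  have hdd : dd p A ∣ dd p G := by
    refine Nat.dvd_gcd ((Nat.gcd_dvd_left _ _).trans hAG) ((Nat.gcd_dvd_right _ _).trans ?_)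
    refine mul_dvd_mul_left p ?_
    exact Nat.ordCompl_dvd_ordCompl_of_dvd hAG p
  have hco : (ex u).Coprime (Nat.card A) := Nat.Coprime.coprime_dvd_right hAG (ex_coprime u)
  let v : (ZMod (Nat.card A))ˣ := ZMod.unitOfCoprime (ex u) hco
  have h5 : ex v ≡ ex u [MOD Nat.card A] := by
    rw [← ZMod.natCast_eq_natCast_iff, ex_cast]
    rfl
  have h6 : v ∈ JJ p A := (mem_JJ v).2 ((h5.of_dvd (dd_dvd p A)).trans (((mem_JJ u).1 hu).of_dvd hdd))
  rw [← pow_congr_card n h5]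
  exact (alm_iff_fun hθ).1 h v h6 n

omit hp in
/-- transport of `X0` along an isomorphism -/
theorem mem0_comp {G : Type u} {H : Type v} [Group G] [Group H] [Finite G] {M : Ideal AlgInt} (e : G ≃* H)
    {χ : IrrCharacter H} (h : Mem0 p M χ) :
    Mem0 p M (⟨fun g => (χ : H → ℂ) (e g), Cfsg.Agent.Characters.Core.isIrr_comp e.toMonoidHom e.surjective χ.2⟩ :
      IrrCharacter G) := by
  refine ⟨Cfsg.Agent.H819.KB.Prod.mem_comp e h.1, ?_, ?_⟩
  · have h1 := h.2.1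
    have h2 : charDegree (fun g => (χ : H → ℂ) (e g)) = charDegree (χ : H → ℂ) := by
      show ⌊((χ : H → ℂ) (e 1)).re⌋₊ = ⌊((χ : H → ℂ) 1).re⌋₊
      rw [map_one]
    show ¬ p ∣ charDegree (fun g => (χ : H → ℂ) (e g))
    rwa [h2]
  · obtain ⟨n, h1, h2, h3⟩ := h.2.2
    exact ⟨n, h1, h2, fun g => h3 (e g)⟩

/-- the outer product for commuting subgroups with trivial intersection -/
theorem step0 {G : Type u} [Group G] [Finite G] {H K : Subgroup G} (hc : ∀ a ∈ H, ∀ b ∈ K, Commute a b)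
    (hd : ∀ z ∈ H, z ∈ K → z = 1) {M : Ideal AlgInt} [M.IsPrime] (α : IrrCharacter H)
    (hα : Mem0 p M α) (β : IrrCharacter K) (hβ : Mem0 p M β) :
    ∃ ψ : IrrCharacter ↥(H ⊔ K), Mem0 p M ψ ∧
      ∀ (a : G) (ha : a ∈ H) (b : G) (hb : b ∈ K) (hab : a * b ∈ H ⊔ K),
        (ψ : ↥(H ⊔ K) → ℂ) ⟨a * b, hab⟩ = (α : H → ℂ) ⟨a, ha⟩ * (β : K → ℂ) ⟨b, hb⟩ := by
  obtain ⟨ψ, hψ, hv⟩ := Cfsg.Agent.H819.KB.Prod.step hc hd α hα.1 β hβ.1
  have hle : H ≤ normalizer (K : Set G) := by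
    intro a ha
    rw [mem_normalizer_iff]
    intro b
    constructor
    · intro hb
      rw [(hc a ha b hb).eq, mul_inv_cancel_right]
      exact hb
    · intro hb
      have h1 := (hc a⁻¹ (inv_mem ha) _ hb).eq
      have h2 : b = a * b * a⁻¹ := by
        have h3 : a⁻¹ * (a * b * a⁻¹) = (a * b * a⁻¹) * a⁻¹ := h1
        have h4 : b * a⁻¹ = (a * b * a⁻¹) * a⁻¹ := by rw [← h3]; group
        exact mul_right_cancel h4
      rw [h2]
      exact hb
  refine ⟨ψ, ⟨hψ, ?_, ?_⟩, hv⟩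
  · -- the degree
    have h1 : (ψ : ↥(H ⊔ K) → ℂ) 1 = (α : H → ℂ) 1 * (β : K → ℂ) 1 := by
      have h2 := hv 1 (one_mem _) 1 (one_mem _) (by rw [mul_one]; exact one_mem _)
      have h3 : (⟨(1 : G) * 1, by rw [mul_one]; exact one_mem _⟩ : ↥(H ⊔ K)) = 1 := Subtype.ext (mul_one _)
      rw [h3] at h2
      exact h2
    have h2 : charDegree (ψ : ↥(H ⊔ K) → ℂ) = charDegree (α : H → ℂ) * charDegree (β : K → ℂ) := by
      have h3 : ((charDegree (ψ : ↥(H ⊔ K) → ℂ) : ℕ) : ℂ) = ((charDegree (α : H → ℂ) * charDegree (β : K → ℂ) : ℕ) : ℂ) := by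
        rw [← irr_one_eq_charDegree ψ.2, h1, irr_one_eq_charDegree α.2, irr_one_eq_charDegree β.2, Nat.cast_mul]
      exact_mod_cast h3
    rw [h2]
    intro h
    rcases (Nat.Prime.dvd_mul hp.out).1 h with h | h
    · exact hα.2.1 h
    · exact hβ.2.1 h
  · rw [alm_iff_fun (irr_isCharacter ψ.2)]
    rintro u hu ⟨x, hx⟩
    have h1 : x ∈ ((H ⊔ K : Subgroup G) : Set G) := hx
    rw [coe_mul_of_left_le_normalizer_right _ _ hle] at h1
    obtain ⟨a, ha, b, hb, hab⟩ := h1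
    have hab' : a * b = x := hab
    subst hab'
    have hmem : a ^ ex u * b ^ ex u ∈ H ⊔ K :=
      mul_mem (le_sup_left (b := K) (pow_mem ha _)) (le_sup_right (a := H) (pow_mem hb _))
    have h2 : (⟨a * b, hx⟩ : ↥(H ⊔ K)) ^ ex u = ⟨a ^ ex u * b ^ ex u, hmem⟩ :=
      Subtype.ext ((hc a ha b hb).mul_pow _)
    rw [h2, hv _ (pow_mem ha _) _ (pow_mem hb _) hmem]
    refine Eq.trans ?_ (hv a ha b hb hx).symm
    have hH : Nat.card H ∣ Nat.card ↥(H ⊔ K) := Subgroup.card_dvd_of_le le_sup_left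
    have hK : Nat.card K ∣ Nat.card ↥(H ⊔ K) := Subgroup.card_dvd_of_le le_sup_right
    have h3 := pow_eq_of_alm' hH (irr_isCharacter α.2) hα.2.2 hu ⟨a, ha⟩
    have h4 := pow_eq_of_alm' hK (irr_isCharacter β.2) hβ.2.2 hu ⟨b, hb⟩
    rw [← h3, ← h4]
    rfl

section main

variable {M : Ideal AlgInt} {G : Type u} [Group G] [Finite G] {N : Subgroup G} [N.Normal]

omit hp in
/-- the trivial character -/
theorem mem0_one [hp : Fact p.Prime] {M : Ideal AlgInt} [M.IsPrime] (W : Type u) [Group W] [Finite W] :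
    Mem0 p M (⟨fun _ => 1, isIrrCharacter_one⟩ : IrrCharacter W) := by
  refine ⟨sameBlock_refl _, ?_, alm_of_rat fun g => ⟨1, by norm_num⟩⟩
  have h1 : charDegree (fun _ : W => (1 : ℂ)) = 1 := by
    unfold charDegree
    simp
  rw [h1]
  exact fun h => hp.out.one_lt.ne' (Nat.dvd_one.1 h)

theorem aux0 (hM : IsPModular p M) (hstr : Str N) (θ : ∀ V : minSet N, IrrCharacter ↥V.1)
    (hθ : ∀ V : minSet N, Mem0 p M (θ V)) (s : Finset (minSet N)) :
    ∀ W : Subgroup G, W = s.sup (fun V => V.1) →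
    ∃ Θ : IrrCharacter W, Mem0 p M Θ ∧ ∀ V ∈ s, ∀ (n : W) (hn : (n : G) ∈ V.1),
      (Θ : W → ℂ) n * (θ V : ↥V.1 → ℂ) 1 = (Θ : W → ℂ) 1 * (θ V : ↥V.1 → ℂ) ⟨n, hn⟩ := by
  classical
  have : M.IsPrime := isPrime_of_isPModular hM
  induction s using Finset.induction_on with
  | empty =>
    intro W _
    exact ⟨⟨fun _ => 1, isIrrCharacter_one⟩, mem0_one W, fun V hV => absurd hV (Finset.notMem_empty _)⟩
  | insert V₀ s hV₀ ih =>
    intro W hW
    rw [Finset.sup_insert] at hW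
    subst hW
    obtain ⟨Θ, hΘ, h⟩ := ih _ rfl
    have hc : ∀ a ∈ V₀.1, ∀ b ∈ s.sup (fun V : minSet N => V.1), Commute a b := by
      intro a ha
      have h1 : s.sup (fun V : minSet N => V.1) ≤ centralizer ({a} : Set G) := by
        refine Finset.sup_le fun V hV b hb => ?_
        rw [mem_centralizer_singleton_iff]
        exact (hstr.comm V₀ V (fun h => hV₀ (h ▸ hV)) a ha b hb).eq.symm
      intro b hb
      exact (mem_centralizer_singleton_iff.1 (h1 hb)).symm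
    have hd : ∀ z ∈ V₀.1, z ∈ s.sup (fun V : minSet N => V.1) → z = 1 := fun z hz hz' =>
      hstr.cen V₀ z hz fun t ht => (hc t ht z hz').symm
    obtain ⟨ψ, hψ, hv⟩ := step0 hc hd (θ V₀) (hθ V₀) Θ hΘ
    refine ⟨ψ, hψ, fun V hV n hn => ?_⟩
    have h1 : (ψ : ↥(V₀.1 ⊔ s.sup (fun V : minSet N => V.1)) → ℂ) 1 =
        (θ V₀ : ↥V₀.1 → ℂ) 1 * (Θ : ↥(s.sup (fun V : minSet N => V.1)) → ℂ) 1 := by
      have h2 := hv 1 (one_mem _) 1 (one_mem _) (by rw [mul_one]; exact one_mem _)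
      have h3 : (⟨(1 : G) * 1, by rw [mul_one]; exact one_mem _⟩ : ↥(V₀.1 ⊔ s.sup (fun V : minSet N => V.1))) = 1 :=
        Subtype.ext (mul_one _)
      rw [h3] at h2
      exact h2
    rw [h1]
    rcases Finset.mem_insert.1 hV with rfl | hV
    · have h2 := hv n hn 1 (one_mem _) (by rw [mul_one]; exact n.2)
      have h3 : (⟨(n : G) * 1, by rw [mul_one]; exact n.2⟩ : ↥(V.1 ⊔ s.sup (fun V : minSet N => V.1))) = n :=
        Subtype.ext (mul_one _)
      rw [h3] at h2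
      rw [h2]
      have h4 : (⟨(1 : G), one_mem _⟩ : ↥(s.sup (fun V : minSet N => V.1))) = 1 := rfl
      rw [h4]
      ring
    · have hnW : (n : G) ∈ s.sup (fun V : minSet N => V.1) :=
        (Finset.le_sup (f := fun V : minSet N => V.1) hV : V.1 ≤ _) hn
      have h2 := hv 1 (one_mem _) n hnW (by rw [one_mul]; exact n.2)
      have h3 : (⟨1 * (n : G), by rw [one_mul]; exact n.2⟩ : ↥(V₀.1 ⊔ s.sup (fun V : minSet N => V.1))) = n :=
        Subtype.ext (one_mul _)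
      rw [h3] at h2
      rw [h2]
      have h4 : (⟨(1 : G), one_mem _⟩ : ↥V₀.1) = 1 := rfl
      rw [h4, mul_assoc, h V hV ⟨n, hnW⟩ hn]
      ring

/-- T0: product characters -/
theorem exists_prod0 (hM : IsPModular p M) (hstr : Str N) (θ : ∀ V : minSet N, IrrCharacter ↥V.1)
    (hθ : ∀ V : minSet N, Mem0 p M (θ V)) :
    ∃ Θ : IrrCharacter N, Mem0 p M Θ ∧ ∀ (V : minSet N) (n : N) (hn : (n : G) ∈ V.1),
      (Θ : N → ℂ) n * (θ V : ↥V.1 → ℂ) 1 = (Θ : N → ℂ) 1 * (θ V : ↥V.1 → ℂ) ⟨n, hn⟩ := by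
  classical
  have : Fintype (minSet N) := Fintype.ofFinite _
  have h1 : N = (Finset.univ : Finset (minSet N)).sup (fun V => V.1) := by
    rw [Finset.sup_univ_eq_iSup, ← sSup_eq_iSup']
    exact hstr.gen.symm
  obtain ⟨Θ, hΘ, h⟩ := aux0 hM hstr θ hθ Finset.univ N h1
  exact ⟨Θ, hΘ, fun V => h V (Finset.mem_univ V)⟩

end main

end Cfsg.Agent.H668.XZ
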