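import Cfsg.Agent.H668.XZ.C3
import Cfsg.Agent.H719.XZ.Arith
import Cfsg.Agent.S0886
import Cfsg.Agent.S4551

/-!
# S4791 + S4927, AL1: `A / hull` cyclic (helper668)

* `exists_unique_ext` : a member of the principal block of `S` has a unique extension in the principal block of the hull.
* `exists_ext_cyclic` : an `A`-invariant member of `X0(S)` extends to a member of `X0(A)` if `A / hull` is cyclic.
* `exists_twists` : the twists of an extension.
* `fam_of_inv`, `fam_of_ext`.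
-/

set_option autoImplicit false
set_option linter.unusedSectionVars false

open Cfsg Subgroup Cfsg.Agent.H508.KB Cfsg.Agent.H674.XZ
open scoped ComplexConjugate

namespace Cfsg.Agent.H668.XZ

universe u

open Cfsg.Agent.Characters.Core
open Cfsg.Agent.Blocks.Local

variable {p : ℕ} [hp : Fact p.Prime] {M : Ideal AlgInt} {A : Type u} [Group A] [Finite A] (S : Subgroup A) [S.Normal]

/-- the unique extension in the principal block of `S C_A(P)` -/
theorem exists_unique_ext (hM : IsPModular p M) (hcop : ¬ p ∣ S.index) (P : Sylow p ↥S) (U : Subgroup A)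
    (hU : U = S ⊔ centralizer (((P : Subgroup ↥S).map S.subtype : Subgroup A) : Set A)) (hSU : S ≤ U)
    (θ : IrrCharacter ↥S) (hθ : θ ∈ principalBlock M ↥S) :
    ∃! χ : IrrCharacter ↥U, χ ∈ principalBlock M ↥U ∧ ∀ s : S, (χ : ↥U → ℂ) ⟨s, hSU s.2⟩ = (θ : S → ℂ) s := by
  classical
  set P' : Subgroup A := (P : Subgroup ↥S).map S.subtype with hP'
  have hP'S : P' ≤ S := by
    rintro _ ⟨y, -, rfl⟩
    exact y.2
  have hCU : centralizer (P' : Set A) ≤ U := by
    rw [hU]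
    exact le_sup_right
  let φ : ↥(S.subgroupOf U) ≃* ↥S := subgroupOfEquivOfLe hSU
  let PU : Subgroup ↥U := P'.subgroupOf U
  have hpg : IsPGroup p PU := by
    have h1 : IsPGroup p P' := P.isPGroup'.map S.subtype
    exact h1.comap_subtype
  have hidx : ¬ p ∣ PU.index := by
    have h1 : P'.relIndex S * S.relIndex U = P'.relIndex U := relIndex_mul_relIndex P' S U hP'S hSU
    have h2 : P'.relIndex S = (P : Subgroup ↥S).index := by
      unfold relIndex
      rw [H426.KB.subgroupOf_map]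
    have h3 : ¬ p ∣ (P : Subgroup ↥S).index := P.not_dvd_index
    have h4 : ¬ p ∣ S.relIndex U := fun h => hcop (h.trans (relIndex_dvd_index_of_normal S U))
    change ¬ p ∣ P'.relIndex U
    rw [← h1, h2, (Fact.out : p.Prime).dvd_mul]
    exact not_or.2 ⟨h3, h4⟩
  let PS : Sylow p ↥U := hpg.toSylow hidx
  have hcoe : (PS : Subgroup ↥U) = PU := IsPGroup.toSylow_coe hpg hidx
  have hsup : (S.subgroupOf U) ⊔ centralizer ((PS : Subgroup ↥U) : Set ↥U) = ⊤ := by
    rw [eq_top_iff]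
    rintro ⟨u, hu⟩ -
    obtain ⟨y, hy, z, hz, rfl⟩ := mem_sup_of_normal_left.1 (hU ▸ hu)
    have hzU : z ∈ U := hCU hz
    have h1 : (⟨y * z, hu⟩ : ↥U) = ⟨y, hSU hy⟩ * ⟨z, hzU⟩ := rfl
    rw [h1]
    refine mul_mem_sup (mem_subgroupOf.2 hy) ?_
    rw [mem_centralizer_iff]
    intro w hw
    rw [hcoe] at hw
    apply Subtype.ext
    exact mem_centralizer_iff.1 hz (w : A) (mem_subgroupOf.1 hw)
  have hidx' : ¬ p ∣ (S.subgroupOf U).index := fun h => hcop (h.trans (relIndex_dvd_index_of_normal S U))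
  let θ' : IrrCharacter ↥(S.subgroupOf U) :=
    ⟨(θ : ↥S → ℂ) ∘ φ.toMonoidHom, Characters.Core.isIrr_comp φ.toMonoidHom φ.surjective θ.2⟩
  have hθ' : θ' ∈ principalBlock M ↥(S.subgroupOf U) := H426.KB.mem_principal_of_equiv φ hθ fun c => rfl
  obtain ⟨χ, ⟨hχ, hres⟩, huniq⟩ := (S4551.result p M hM (S.subgroupOf U) hidx' PS hsup).2 θ' hθ'
  refine ⟨χ, ⟨hχ, fun s => ?_⟩, ?_⟩
  · have h1 := hres (φ.symm s)
    have h2 : (θ' : ↥(S.subgroupOf U) → ℂ) (φ.symm s) = (θ : ↥S → ℂ) s :=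
      congrArg (θ : ↥S → ℂ) (φ.apply_symm_apply _)
    rw [← h2, ← h1]
    rfl
  · rintro χ' ⟨h1, h2⟩
    refine huniq χ' ⟨h1, fun n => ?_⟩
    exact h2 (φ n)

/-- **AL1** : extension to `X0(A)` -/
theorem exists_ext_cyclic (hM : IsPModular p M) (hcop : ¬ p ∣ S.index)
    (hgen : ∃ a : A, ∀ b : A, ∃ k : ℤ, a ^ k * b ∈ hull p S) (θ : IrrCharacter S) (hθ : Mem0 p M θ)
    (hinv : ∀ (a : A) (s : S), (θ : S → ℂ) (MulAut.conjNormal a s) = (θ : S → ℂ) s) :
    ∃ χ : IrrCharacter A, Mem0 p M χ ∧ ∀ s : S, (χ : A → ℂ) s = (θ : S → ℂ) s := by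
  classical
  have hn := hull_normal S hcop
  obtain ⟨P⟩ : Nonempty (Sylow p S) := inferInstance
  have hSH : S ≤ hull p S := le_sup_left
  obtain ⟨ψ, ⟨hψ, hres⟩, huniq⟩ := exists_unique_ext S hM hcop P (hull p S) (H96.KB.Hull.hull_eq S hcop P).1 hSH θ hθ.1
  -- `ψ` is invariant
  have hψinv : ∀ (a : A) (x : hull p S), (ψ : hull p S → ℂ) (MulAut.conjNormal a x) = (ψ : hull p S → ℂ) x := by
    intro a x
    have h1 : Blocks.Covering.conjIrr (hull p S) a⁻¹ ψ = ψ := by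
      apply huniq
      refine ⟨H611.CoverPrincipal.conjIrr_mem_principalBlock (hull p S) a⁻¹ hψ, fun s => ?_⟩
      rw [Blocks.Covering.conjIrr_apply]
      have h2 : (MulAut.conjNormal a⁻¹ : MulAut (hull p S)) ⟨s, hSH s.2⟩ =
          ⟨(MulAut.conjNormal a⁻¹ s : S), hSH (MulAut.conjNormal a⁻¹ s : S).2⟩ := by
        apply Subtype.ext
        rw [MulAut.conjNormal_apply, MulAut.conjNormal_apply]
      rw [h2, hres, hinv]
    have h2 := congrFun (congrArg Subtype.val h1) (MulAut.conjNormal a x)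
    rw [← h2]
    rw [Blocks.Covering.conjIrr_apply]
    rw [← MulAut.mul_apply, ← map_mul, inv_mul_cancel, map_one]
    rfl
  have hcyc : IsCyclic (A ⧸ hull p S) := by
    obtain ⟨a, ha⟩ := hgen
    refine ⟨(a : A ⧸ hull p S), fun x => ?_⟩
    obtain ⟨b, rfl⟩ := QuotientGroup.mk_surjective x
    obtain ⟨k, hk⟩ := ha b
    refine Subgroup.mem_zpowers_iff.2 ⟨-k, ?_⟩
    rw [← QuotientGroup.mk_zpow, QuotientGroup.eq, zpow_neg, inv_inv]
    exact hk
  obtain ⟨χ, hχ, hχres⟩ := S0886.result (hull p S) hcyc (ψ : hull p S → ℂ) ψ.2 (fun g n => hψinv g n)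
  refine ⟨⟨χ, hχ⟩, ?_, fun s => ?_⟩
  · -- over `θ` and over `ψ`
    have : Fintype A := Fintype.ofFinite A
    have : Fintype S := Fintype.ofFinite S
    have : Fintype (hull p S) := Fintype.ofFinite _
    have hov : Over S ⟨χ, hχ⟩ θ := by
      rw [over_iff]
      have h1 : (fun n : S => χ n) = (θ : S → ℂ) := by
        funext s
        rw [← hres s]
        exact hχres ⟨s, hSH s.2⟩
      show classInner (fun n : S => χ n) (θ : S → ℂ) ≠ 0
      rw [h1, classInner_irr_self θ.2]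
      exact one_ne_zero
    have hdeg := not_dvd_of_over S hcop ⟨χ, hχ⟩ θ hov hθ.2.1
    refine ⟨?_, hdeg, alm_of_over S hcop ⟨χ, hχ⟩ θ hov hθ.2.2⟩
    obtain ⟨Q⟩ : Nonempty (Sylow p A) := inferInstance
    have hQ := H735.S4822.sylow_le S hcop Q
    refine H627.BR.mem_of_over hM Q (hull p S) (H261.KB.Ker.centralizer_le S Q hQ) ψ hψ ⟨χ, hχ⟩ ?_ hdeg
    rw [H627.BR.ov_iff]
    have h1 : (fun n : hull p S => χ n) = (ψ : hull p S → ℂ) := funext hχres
    show classInner (fun n : hull p S => χ n) (ψ : hull p S → ℂ) ≠ 0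
    rw [h1, classInner_irr_self ψ.2]
    exact one_ne_zero
  · show χ s = _
    rw [← hres s]
    exact hχres ⟨s, hSH s.2⟩

omit hp [S.Normal] in
/-- commutators -/
theorem comm_of_gen {H : Subgroup A} [H.Normal] (hgen : ∃ a : A, ∀ b : A, ∃ k : ℤ, a ^ k * b ∈ H) (x y : A) :
    x * y * x⁻¹ * y⁻¹ ∈ H := by
  obtain ⟨a, ha⟩ := hgen
  obtain ⟨k, hk⟩ := ha x
  obtain ⟨l, hl⟩ := ha y
  rw [← QuotientGroup.eq_one_iff] at hk hl ⊢
  rw [QuotientGroup.mk_mul, QuotientGroup.mk_zpow] at hk hl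
  have h1 := eq_inv_of_mul_eq_one_right hk
  have h2 := eq_inv_of_mul_eq_one_right hl
  rw [QuotientGroup.mk_mul, QuotientGroup.mk_mul, QuotientGroup.mk_mul, QuotientGroup.mk_inv, QuotientGroup.mk_inv, h1, h2]
  group

/-- **the twists of an extension** : `|A : hull|` members of `X0(A)` over `θ` -/
theorem exists_over_of_ext (hM : IsPModular p M) (hcop : ¬ p ∣ S.index) (hab : ∀ a b : A, a * b * a⁻¹ * b⁻¹ ∈ hull p S)
    {χ : IrrCharacter A} (hχ : Mem0 p M χ) (θ : IrrCharacter S) (hres : ∀ s : S, (χ : A → ℂ) s = (θ : S → ℂ) s) :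
    ∃ ψ : Fin (hull p S).index → IrrCharacter A, Function.Injective ψ ∧ ∀ j, Mem0 p M (ψ j) ∧ Over S (ψ j) θ := by
  classical
  have hn := hull_normal S hcop
  have : Fintype A := Fintype.ofFinite A
  have : Fintype S := Fintype.ofFinite S
  have hSH : S ≤ hull p S := le_sup_left
  obtain ⟨Λ, h1, h2, -, -⟩ := CharactersDeep.AbelianQuotient.exists_linear_dual (hull p S) hab
  let e : Fin (hull p S).index ≃ ↥Λ := (finCongr h2.symm).trans Λ.equivFin.symm
  have hirr : IsIrrCharacter S (fun x : S => (χ : A → ℂ) x) := by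
    have h3 : (fun x : S => (χ : A → ℂ) x) = (θ : S → ℂ) := funext hres
    rw [h3]
    exact θ.2
  have hirrH : IsIrrCharacter (hull p S) (fun x : hull p S => (χ : A → ℂ) x) :=
    irr_of_sub hSH (isCharacter_comp (hull p S).subtype (isIrr_isCharacter χ.2)) hirr
  refine ⟨fun j => twist (e j).1 χ, ?_, fun j => ⟨mem0_twist S hM hcop ((h1 _).1 (e j).2) hχ, ?_⟩⟩
  · intro i j hij
    apply e.injective
    apply Subtype.ext
    have hl' := (h1 _).1 (e i).2
    have hm' := (h1 _).1 (e j).2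
    have e2 : ∀ g, ((e i).1 g : ℂ) * (χ : A → ℂ) g = ((e j).1 g : ℂ) * (χ : A → ℂ) g := fun g =>
      congrFun (congrArg Subtype.val hij) g
    have e5 : ((e j).1)⁻¹ * (e i).1 = 1 := by
      refine eq_one_of_fix (N := hull p S) hab hirrH (fun x hx => ?_) (fun g => ?_)
      · rw [MonoidHom.mul_apply, MonoidHom.inv_apply, hl' x hx, hm' x hx, inv_one, one_mul]
      · rw [MonoidHom.mul_apply, MonoidHom.inv_apply, Units.val_mul, mul_assoc, e2, ← mul_assoc, ← Units.val_mul,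
          inv_mul_cancel, Units.val_one, one_mul]
    exact (inv_mul_eq_one.1 e5).symm
  · rw [over_iff]
    have h3 : (fun x : S => (twist (e j).1 χ : A → ℂ) x) = (θ : S → ℂ) := by
      funext x
      rw [twist_apply, (h1 _).1 (e j).2 x (hSH x.2), Units.val_one, one_mul, hres]
    rw [h3, classInner_irr_self θ.2]
    exact one_ne_zero

/-- `Fam` from extensions -/
theorem fam_of_ext (hM : IsPModular p M) (hcop : ¬ p ∣ S.index) (hab : ∀ a b : A, a * b * a⁻¹ * b⁻¹ ∈ hull p S) {R : ℕ}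
    (θ : Fin R → IrrCharacter S) (hθ : Function.Injective θ) (h0 : ∀ i, Mem0 p M (θ i))
    (hext : ∀ i, ∃ χ : IrrCharacter A, Mem0 p M χ ∧ ∀ s : S, (χ : A → ℂ) s = (θ i : S → ℂ) s) :
    H719.XZ.Fam p M S R := by
  refine ⟨θ, hθ, h0, fun i a s => ?_, fun i => ?_⟩
  · obtain ⟨χ, -, h⟩ := hext i
    rw [← h, ← h, MulAut.conjNormal_apply]
    exact Blocks.Basic.irr_conj χ.2 _ _
  · obtain ⟨χ, hχ, h⟩ := hext i
    exact exists_over_of_ext S hM hcop hab hχ (θ i) h

/-- **AL1** : `Fam` from invariant members of `X0(S)`, `A / hull` cyclic -/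
theorem fam_of_inv (hM : IsPModular p M) (hcop : ¬ p ∣ S.index)
    (hgen : ∃ a : A, ∀ b : A, ∃ k : ℤ, a ^ k * b ∈ hull p S) {R : ℕ}
    (θ : Fin R → IrrCharacter S) (hθ : Function.Injective θ) (h0 : ∀ i, Mem0 p M (θ i))
    (hinv : ∀ i (a : A) (s : S), (θ i : S → ℂ) (MulAut.conjNormal a s) = (θ i : S → ℂ) s) : H719.XZ.Fam p M S R := by
  have hn := hull_normal S hcop
  exact fam_of_ext S hM hcop (comm_of_gen hgen) θ hθ h0 fun i => exists_ext_cyclic S hM hcop hgen (θ i) (h0 i) (hinv i)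

omit hp [S.Normal] in
/-- the form of `H719.XZ.exists_gen` -/
theorem gen_of_inv {H : Subgroup A} (h : ∃ g : A, ∀ a : A, ∃ k : ℤ, (g ^ k)⁻¹ * a ∈ H) :
    ∃ a : A, ∀ b : A, ∃ k : ℤ, a ^ k * b ∈ H := by
  obtain ⟨g, hg⟩ := h
  refine ⟨g, fun b => ?_⟩
  obtain ⟨k, hk⟩ := hg b
  exact ⟨-k, by rwa [zpow_neg]⟩

omit hp [S.Normal] in
theorem gen_of_isCyclic {H : Subgroup A} [H.Normal] (h : IsCyclic (A ⧸ H)) :
    ∃ a : A, ∀ b : A, ∃ k : ℤ, a ^ k * b ∈ H := by
  obtain ⟨x, hx⟩ := h.exists_generator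
  obtain ⟨g, rfl⟩ := QuotientGroup.mk_surjective x
  refine gen_of_inv ⟨g, fun a => ?_⟩
  obtain ⟨k, hk⟩ := Subgroup.mem_zpowers_iff.1 (hx (a : A ⧸ H))
  refine ⟨k, ?_⟩
  rw [← QuotientGroup.mk_zpow, QuotientGroup.eq] at hk
  exact hk

end Cfsg.Agent.H668.XZ
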