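import Mathlib

/-!
# S4791 + S4927: counting orbits (helper668)

`num_two` : the numbers (`e c = p - 1`).

`Ω → K` the quotient map for the orbits on `X0(S)`; `X i` : stable disjoint families, orbits in the families have at most two
elements; `O j` : disjoint sets with at least `c` elements, each inside a family or outside all families.
-/

set_option autoImplicit false

namespace Cfsg.Agent.H668.XZ.Comb

open Finset

theorem arith_fam {c k y : ℕ} (h1 : 1 ≤ y) (h2 : k * c ≤ 2 * y) : 1 + k * ((c + 1) / 2 - 1) ≤ y := by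
  rcases Nat.eq_zero_or_pos c with rfl | hc
  · simpa using h1
  obtain ⟨d, hd⟩ : ∃ d, (c + 1) / 2 = d + 1 := ⟨(c + 1) / 2 - 1, by omega⟩
  have h3 : 2 * d + 1 ≤ c := by omega
  have h4 : k * (2 * d + 1) ≤ 2 * y := (Nat.mul_le_mul_left k h3).trans h2
  rw [hd, Nat.add_sub_cancel]
  rcases Nat.lt_or_ge k 2 with hk | hk
  · interval_cases k
    · omega
    · omega
  · have h5 : k * (2 * d + 1) = 2 * (k * d) + k := by ring
    omega

theorem arith_one {c k y : ℕ} (h1 : 1 ≤ y) (h2 : k * c ≤ 1 * y) : 1 + k * (c - 1) ≤ y := by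
  rcases Nat.eq_zero_or_pos c with rfl | hc
  · simpa using h1
  obtain ⟨d, rfl⟩ : ∃ d, c = d + 1 := ⟨c - 1, by omega⟩
  rw [Nat.add_sub_cancel]
  rcases Nat.eq_zero_or_pos k with rfl | hk
  · omega
  · have h5 : k * (d + 1) = k * d + k := by ring
    omega

/-! ### the numbers -/

theorem binom_ge {κ : ℕ} (hκ : 3 ≤ κ) {t : ℕ} (ht : 2 ≤ t) : t * (κ * (κ + 1)) ≤ 4 * (κ + t - 1).choose t := by
  induction t, ht using Nat.le_induction with
  | base =>
    have h1 : κ + 2 - 1 = κ + 1 := by omega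
    rw [h1, Nat.choose_two_right, Nat.add_sub_cancel]
    have h2 : 2 ∣ (κ + 1) * κ := by
      rw [mul_comm]
      exact (Nat.even_mul_succ_self κ).two_dvd
    obtain ⟨a, ha⟩ := h2
    have h3 : κ * (κ + 1) = 2 * a := by rw [mul_comm, ha]
    rw [ha, h3, Nat.mul_div_cancel_left a (by norm_num)]
    omega
  | succ t ht ih =>
    have h1 := Nat.add_one_mul_choose_eq (κ + t - 1) t
    have h2 : κ + t - 1 + 1 = κ + (t + 1) - 1 := by omega
    rw [h2] at h1
    have h3 : κ + (t + 1) - 1 = κ + t := by omega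
    rw [h3] at h1 ⊢
    have h4 : (t + 1) * ((t + 1) * (κ * (κ + 1))) ≤ (t + 1) * (4 * (κ + t).choose (t + 1)) := by
      calc (t + 1) * ((t + 1) * (κ * (κ + 1))) = ((t + 1) * (t + 1)) * (κ * (κ + 1)) := by ring
        _ ≤ ((κ + t) * t) * (κ * (κ + 1)) := by
          apply Nat.mul_le_mul_right
          nlinarith
        _ = (κ + t) * (t * (κ * (κ + 1))) := by ring
        _ ≤ (κ + t) * (4 * (κ + t - 1).choose t) := Nat.mul_le_mul_left _ ih
        _ = 4 * ((κ + t) * (κ + t - 1).choose t) := by ring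
        _ = 4 * ((κ + t).choose (t + 1) * (t + 1)) := by rw [h1]
        _ = (t + 1) * (4 * (κ + t).choose (t + 1)) := by ring
    exact Nat.le_of_mul_le_mul_left h4 (Nat.succ_pos t)

/-- `4 e c < (e + X)²` -/
theorem amgm {e c X : ℕ} (he : 1 ≤ e) (hX : c ≤ X) (h : X = c → e ≠ c) : 4 * (e * c) < (e + X) ^ 2 := by
  rcases Nat.lt_or_ge c X with h1 | h1
  · have h2 : e * (c + 1) ≤ e * X := Nat.mul_le_mul_left e h1
    zify at *
    nlinarith [sq_nonneg ((e : ℤ) - X)]
  · have h2 : X = c := le_antisymm h1 hX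
    have h3 := h h2
    subst h2
    rcases Nat.lt_or_ge e X with h4 | h4
    · zify at *
      nlinarith
    · have h5 : X < e := lt_of_le_of_ne h4 (Ne.symm h3)
      zify at *
      nlinarith

/-- the bound for `t = 1` -/
theorem num_t1 {e c f R κ k l y : ℕ} (hc : 1 ≤ c) (he : 3 ≤ e) (hR : e + 1 ≤ R) (h44 : e = 4 → c = 4 → 6 ≤ R) (hf : 2 ≤ f)
    (hkl : k + l = (c + 1) / 2) (hl : l * c ≤ f * y) (hκ : R + k * ((c + 1) / 2 - 1) + y ≤ κ) :
    4 * (e * c) < (f + κ - 1) ^ 2 := by
  set d := (c + 1) / 2 with hd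
  have hd1 : 1 ≤ d := by omega
  have hcd : c ≤ 2 * d := by omega
  have hcd' : 2 * d ≤ c + 1 := by omega
  obtain ⟨d', hd'⟩ : ∃ d', d = d' + 1 := ⟨d - 1, by omega⟩
  have hX : c ≤ f + k * (d - 1) + y ∧ (f + k * (d - 1) + y = c → c = 2 ∨ c = 4) := by
    rw [hd', Nat.add_sub_cancel]
    rcases Nat.eq_zero_or_pos k with hk | hk
    · -- `k = 0`
      subst hk
      have h1 : l = d := by omega
      rw [h1] at hl
      have h2 : c < f + y := by
        by_contra hcon
        have h3 : f + y ≤ c := by omega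
        have h4 : (f + y) * (f + y) ≤ c * c := Nat.mul_le_mul h3 h3
        have h5 : 4 * (f * y) ≤ (f + y) * (f + y) := by
          zify
          nlinarith [sq_nonneg ((f : ℤ) - y)]
        have h6 : c * c ≤ 2 * (d * c) := by
          have := Nat.mul_le_mul_right c hcd
          linarith
        have h7 : 0 < c * c := Nat.mul_pos hc hc
        linarith
      constructor
      · omega
      · intro h3; omega
    · rcases Nat.eq_zero_or_pos l with hl0 | hl0
      · -- `l = 0`
        have h1 : k = d' + 1 := by omega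
        subst h1
        have h2 : 2 ≤ d' → 2 * d' + 2 ≤ (d' + 1) * d' := by
          intro h
          nlinarith
        rcases Nat.lt_or_ge d' 2 with h3 | h3
        · interval_cases d'
          · constructor
            · omega
            · intro h; omega
          · constructor
            · omega
            · intro h; omega
        · have := h2 h3
          constructor
          · omega
          · intro h; omega
      · have hy : 1 ≤ y := by
          rcases Nat.eq_zero_or_pos y with h | h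
          · rw [h, mul_zero] at hl
            have := Nat.mul_pos hl0 hc
            omega
          · exact h
        rcases Nat.lt_or_ge k 2 with hk2 | hk2
        · -- `k = 1`
          have h1 : k = 1 := by omega
          subst h1
          have h2 : l = d' := by omega
          subst h2
          have h3 : l + 3 ≤ f + y := by
            by_contra hcon
            have h4 : f + y ≤ l + 2 := by omega
            have h5 : (f + y) * (f + y) ≤ (l + 2) * (l + 2) := Nat.mul_le_mul h4 h4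
            have h6 : 4 * (f * y) ≤ (f + y) * (f + y) := by
              zify
              nlinarith [sq_nonneg ((f : ℤ) - y)]
            have h7 : l * (2 * l + 1) ≤ l * c := Nat.mul_le_mul_left _ (by omega)
            nlinarith
          constructor
          · omega
          · intro h; omega
        · have h1 : 2 * d' ≤ k * d' := Nat.mul_le_mul_right _ hk2
          constructor
          · omega
          · intro h; omega
  obtain ⟨hX1, hX2⟩ := hX
  have hn : e + (f + k * (d - 1) + y) ≤ f + κ - 1 := by omega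
  by_cases hec : f + k * (d - 1) + y = c ∧ e = c
  · obtain ⟨h1, h2⟩ := hec
    rcases hX2 h1 with h3 | h3
    · omega
    · have h4 := h44 (by omega) h3
      have h5 : 9 ≤ f + κ - 1 := by omega
      have h6 : 9 * 9 ≤ (f + κ - 1) ^ 2 := by
        rw [sq]
        exact Nat.mul_le_mul h5 h5
      subst h2
      subst h3
      omega
  · exact (amgm (by omega) hX1 (fun h1 h2 => hec ⟨h1, h2⟩)).trans_le (Nat.pow_le_pow_left hn 2)

theorem aux1 (x : ℕ) : 12 * (x * x * x) ≤ ((x + 1) * (x + 1 + 1)) * ((x + 1) * (x + 1 + 1)) := by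
  have h : ((x + 1) * (x + 1 + 1)) * ((x + 1) * (x + 1 + 1)) + 6 * (x * x * x) =
      x * x * (x * x) + 9 * (x * x) + 12 * (x * x * x) + 4 * (x * x) + 12 * x + 4 := by ring
  have h2 : 6 * (x * x * x) ≤ x * x * (x * x) + 9 * (x * x) := by
    zify
    nlinarith [sq_nonneg ((x : ℤ) * x - 3 * x)]
  omega

theorem aux2 {u f x F : ℕ} (hf : 7 ≤ f) (h8 : u * u ≤ 2 * f * (x * x * x)) (h9 : 12 * (x * x * x) ≤ F * F) :
    8 * (4 * u) ≤ 5 * (f * F) := by
  by_contra hcon
  push Not at hcon
  have h1 : (5 * (f * F)) * (5 * (f * F)) < (8 * (4 * u)) * (8 * (4 * u)) := Nat.mul_lt_mul'' hcon hcon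
  have h2 : (f * f) * (12 * (x * x * x)) ≤ (f * f) * (F * F) := Nat.mul_le_mul_left _ h9
  have h3 : 7 * (f * (x * x * x)) ≤ f * (f * (x * x * x)) := Nat.mul_le_mul_right _ hf
  have h4 : (5 * (f * F)) * (5 * (f * F)) = 25 * ((f * f) * (F * F)) := by ring
  have h5 : (8 * (4 * u)) * (8 * (4 * u)) = 1024 * (u * u) := by ring
  have h6 : (f * f) * (12 * (x * x * x)) = 12 * (f * (f * (x * x * x))) := by ring
  have h7 : 2 * f * (x * x * x) = 2 * (f * (x * x * x)) := by ring
  rw [h4, h5] at h1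
  rw [h6] at h2
  rw [h7] at h8
  omega

theorem aux3 {n Z F : ℕ} (hn : 11 ≤ n) (h1 : n * n ≤ Z) (h2 : 8 * Z ≤ 5 * F) (h3 : F ≤ (n + 1) * (n + 1)) : False := by
  nlinarith

/-- the numbers, orbits of length at most two in the families -/
theorem num_two {e c f R κ k l y t g n : ℕ} (hc : 1 ≤ c) (he : 3 ≤ e) (hR : e + 1 ≤ R) (h44 : e = 4 → c = 4 → 6 ≤ R)
    (hf : 2 ≤ f) (hkl : k + l = (c + 1) / 2) (hl : l * c ≤ f * y) (hκ : R + k * ((c + 1) / 2 - 1) + y ≤ κ)
    (ht : 1 ≤ t) (hg : f ≤ t * g) (hn : (κ + t - 1).choose t + g ≤ n + 1) : 4 * (e * c) < n ^ 2 := by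
  have h1 := num_t1 hc he hR h44 hf hkl hl hκ
  rcases Nat.lt_or_ge t 2 with ht2 | ht2
  · have h2 : t = 1 := by omega
    subst h2
    rw [Nat.choose_one_right, one_mul] at *
    exact h1.trans_le (Nat.pow_le_pow_left (by omega) 2)
  have hκ4 : 4 ≤ κ := by omega
  have hB := binom_ge (κ := κ) (by omega) ht2
  set B := (κ + t - 1).choose t
  have hg1 : 1 ≤ g := by
    rcases Nat.eq_zero_or_pos g with h | h
    · rw [h, mul_zero] at hg
      omega
    · exact h
  have hB2 : κ * (κ + 1) ≤ 2 * B := by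
    have := Nat.mul_le_mul_right (κ * (κ + 1)) ht2
    omega
  by_cases hfk : 2 * f ≤ κ * (κ - 1)
  · obtain ⟨a, rfl⟩ : ∃ a, κ = a + 1 := ⟨κ - 1, by omega⟩
    rw [Nat.add_sub_cancel] at hfk
    have h3 : f + (a + 1) - 1 ≤ n := by
      have : (a + 1) * (a + 1 + 1) = (a + 1) * a + 2 * (a + 1) := by ring
      omega
    exact h1.trans_le (Nat.pow_le_pow_left h3 2)
  · push Not at hfk
    -- `F = f κ (κ + 1) ≤ (n + 1)²`
    have hF : f * (κ * (κ + 1)) ≤ (n + 1) * (n + 1) := by
      calc f * (κ * (κ + 1)) ≤ (t * g) * (κ * (κ + 1)) := Nat.mul_le_mul_right _ hg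
        _ = (t * (κ * (κ + 1))) * g := by ring
        _ ≤ (4 * B) * g := Nat.mul_le_mul_right _ hB
        _ ≤ (B + g) * (B + g) := by
          zify
          nlinarith [sq_nonneg ((B : ℤ) - g)]
        _ ≤ (n + 1) * (n + 1) := Nat.mul_le_mul hn hn
    have hf7 : 7 ≤ f := by
      have h3 : 4 * 3 ≤ κ * (κ - 1) := Nat.mul_le_mul hκ4 (by omega)
      omega
    have hF140 : 7 * (4 * 5) ≤ f * (κ * (κ + 1)) := Nat.mul_le_mul hf7 (Nat.mul_le_mul hκ4 (by omega))
    have hn11 : 11 ≤ n := by
      by_contra hcon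
      have : n + 1 ≤ 11 := by omega
      have : (n + 1) * (n + 1) ≤ 11 * 11 := Nat.mul_le_mul this this
      omega
    by_contra hcon
    push Not at hcon
    -- `Z = 4 e c`
    obtain ⟨x, rfl⟩ : ∃ x, κ = x + 1 := ⟨κ - 1, by omega⟩
    rw [Nat.add_sub_cancel] at hfk
    have hex : e ≤ x := by omega
    have hZ : 8 * (4 * (e * c)) ≤ 5 * (f * ((x + 1) * (x + 1 + 1))) := by
      by_cases hc2 : c ≤ 2
      · have h3 : e * c ≤ x * 2 := Nat.mul_le_mul hex hc2
        have h4 : 7 * ((x + 1) * (x + 1 + 1)) ≤ f * ((x + 1) * (x + 1 + 1)) := Nat.mul_le_mul_right _ hf7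
        have h5 : (x + 1) * (x + 1 + 1) = x * x + 3 * x + 2 := by ring
        have h6 : 3 * x ≤ x * x := Nat.mul_le_mul_right _ (by omega)
        omega
      · push Not at hc2
        set d := (c + 1) / 2 with hd
        have hd2 : 2 ≤ d := by omega
        have h3 : k ≤ k * (d - 1) := Nat.le_mul_of_pos_right k (by omega)
        have h4 : k * c ≤ 4 * (k * (d - 1)) := by
          calc k * c ≤ k * (2 * (d - 1) + 2) := Nat.mul_le_mul_left _ (by omega)
            _ = 2 * (k * (d - 1)) + 2 * k := by ring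
            _ ≤ _ := by omega
        have h5 : c * c ≤ 2 * (f * (k * (d - 1) + y)) := by
          have h6 : 4 * (k * (d - 1)) ≤ f * (k * (d - 1)) := Nat.mul_le_mul_right _ (by omega)
          calc c * c ≤ (2 * (k + l)) * c := Nat.mul_le_mul_right _ (by omega)
            _ = 2 * (k * c + l * c) := by ring
            _ ≤ 2 * (f * (k * (d - 1)) + f * y) := by omega
            _ = _ := by ring
        have h6 : k * (d - 1) + y ≤ x := by omega
        have h7 : c * c ≤ 2 * (f * x) := h5.trans (Nat.mul_le_mul_left _ (Nat.mul_le_mul_left _ h6))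
        -- squares
        have h8 : (e * c) * (e * c) ≤ 2 * f * (x * x * x) := by
          calc (e * c) * (e * c) = (e * e) * (c * c) := by ring
            _ ≤ (x * x) * (2 * (f * x)) := Nat.mul_le_mul (Nat.mul_le_mul hex hex) h7
            _ = _ := by ring
        exact aux2 hf7 h8 (aux1 x)
    exact aux3 hn11 (by rw [← sq]; exact hcon) hZ hF

/-- the numbers, `|A : hull| = 1` -/
theorem num_one {e c R κ t g n : ℕ} (hc : 1 ≤ c) (he : 3 ≤ e) (hR : e + 1 ≤ R)
    (hκ : R + (c + 1) / 2 * (c - 1) ≤ κ) (ht : 1 ≤ t) (hg : 1 ≤ t * g) (hn : (κ + t - 1).choose t + g ≤ n + 1) :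
    4 * (e * c) < n ^ 2 := by
  have hκ4 : 4 ≤ κ := by omega
  have hg1 : 1 ≤ g := by
    rcases Nat.eq_zero_or_pos g with h | h
    · rw [h, mul_zero] at hg
      omega
    · exact h
  have hnκ : κ ≤ n := by
    rcases Nat.lt_or_ge t 2 with ht2 | ht2
    · have h2 : t = 1 := by omega
      subst h2
      rw [Nat.choose_one_right] at hn
      omega
    · have hB := binom_ge (κ := κ) (by omega) ht2
      have h3 := Nat.mul_le_mul_right (κ * (κ + 1)) ht2
      have h4 : κ * 2 ≤ κ * (κ + 1) := Nat.mul_le_mul_left _ (by omega)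
      omega
  have h1 : c - 1 ≤ (c + 1) / 2 * (c - 1) := Nat.le_mul_of_pos_left _ (by omega)
  have h2 : e + (1 + (c + 1) / 2 * (c - 1)) ≤ n := by omega
  refine (amgm (by omega) (by omega) (fun h3 h4 => ?_)).trans_le (Nat.pow_le_pow_left h2 2)
  have h5 : (c + 1) / 2 * (c - 1) = 1 * (c - 1) := by omega
  rcases Nat.eq_zero_or_pos (c - 1) with h6 | h6
  · omega
  · have h7 := Nat.eq_of_mul_eq_mul_right h6 h5
    omega

set_option linter.unusedSectionVars false

variable {Ω K : Type*} [Fintype Ω] [Fintype K] [DecidableEq Ω] [DecidableEq K]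

theorem card_le_mul (q : Ω → K) {f : ℕ} {s : Finset Ω} (hf : ∀ x ∈ s, #{y | q y = q x} ≤ f) : #s ≤ f * #(s.image q) := by
  refine card_le_mul_card_image s f fun a ha => ?_
  obtain ⟨x, hx, rfl⟩ := mem_image.1 ha
  refine (card_le_card ?_).trans (hf x hx)
  intro y hy
  rw [mem_filter] at hy
  exact mem_filter.2 ⟨mem_univ _, hy.2⟩

theorem count (q : Ω → K) {R h c f b s : ℕ} (hs : ∀ k y, 1 ≤ y → k * c ≤ b * y → 1 + k * s ≤ y) (X : Fin R → Finset Ω) (hX : ∀ i j, i ≠ j → Disjoint (X i) (X j))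
    (hne : ∀ i, (X i).Nonempty) (hst : ∀ i x y, x ∈ X i → q y = q x → y ∈ X i)
    (h2 : ∀ i, ∀ x ∈ X i, #{y | q y = q x} ≤ b) (hf : ∀ x, #{y | q y = q x} ≤ f) (O : Fin h → Finset Ω)
    (hO : ∀ i j, i ≠ j → Disjoint (O i) (O j)) (hc : ∀ j, c ≤ #(O j))
    (hOX : ∀ j, (∃ i, O j ⊆ X i) ∨ ∀ i, Disjoint (O j) (X i)) :
    ∃ k l y, k + l = h ∧ l * c ≤ f * y ∧ R + k * s + y ≤ Fintype.card K := by
  classical
  let Kf : Fin R → Finset (Fin h) := fun i => univ.filter fun j => O j ⊆ X i ∧ ∀ i', O j ⊆ X i' → i ≤ i'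
  let L : Finset (Fin h) := univ.filter fun j => ∀ i, Disjoint (O j) (X i)
  let Rest : Finset Ω := univ \ univ.biUnion X
  -- the images
  have hdis : ∀ i j, i ≠ j → Disjoint ((X i).image q) ((X j).image q) := by
    intro i j hij
    rw [Finset.disjoint_left]
    intro a ha hb
    obtain ⟨x, hx, rfl⟩ := mem_image.1 ha
    obtain ⟨y, hy, hyx⟩ := mem_image.1 hb
    exact Finset.disjoint_left.1 (hX i j hij) (hst i x x hx rfl) (hst j y x hy hyx.symm)
  have hdis2 : Disjoint (univ.biUnion fun i => (X i).image q) (Rest.image q) := by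
    rw [Finset.disjoint_left]
    intro a ha hb
    obtain ⟨i, -, ha⟩ := mem_biUnion.1 ha
    obtain ⟨x, hx, rfl⟩ := mem_image.1 ha
    obtain ⟨y, hy, hyx⟩ := mem_image.1 hb
    have h1 := (mem_sdiff.1 hy).2
    exact h1 (mem_biUnion.2 ⟨i, mem_univ _, hst i x y hx hyx⟩)
  have htot : ∑ i, #((X i).image q) + #(Rest.image q) ≤ Fintype.card K := by
    rw [← card_biUnion fun i _ j _ hij => hdis i j hij, ← card_union_of_disjoint hdis2]
    exact card_le_univ _
  -- the families
  have hfam : ∀ i, 1 + #(Kf i) * s ≤ #((X i).image q) := by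
    intro i
    refine hs _ _ (card_pos.2 ((hne i).image q)) ?_
    refine le_trans ?_ (card_le_mul q (h2 i))
    have h3 : (Kf i).biUnion O ⊆ X i := by
      intro x hx
      obtain ⟨j, hj, hx⟩ := mem_biUnion.1 hx
      exact (mem_filter.1 hj).2.1 hx
    refine le_trans ?_ (card_le_card h3)
    rw [card_biUnion fun a _ b _ hab => hO a b hab, ← smul_eq_mul]
    exact card_nsmul_le_sum _ _ _ fun j _ => hc j
  -- the rest
  have hrest : #L * c ≤ f * #(Rest.image q) := by
    refine le_trans ?_ (card_le_mul q fun x _ => hf x)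
    have h3 : L.biUnion O ⊆ Rest := by
      intro x hx
      obtain ⟨j, hj, hx⟩ := mem_biUnion.1 hx
      refine mem_sdiff.2 ⟨mem_univ _, fun h => ?_⟩
      obtain ⟨i, -, hi⟩ := mem_biUnion.1 h
      exact Finset.disjoint_left.1 ((mem_filter.1 hj).2 i) hx hi
    refine le_trans ?_ (card_le_card h3)
    rw [card_biUnion fun a _ b _ hab => hO a b hab, ← smul_eq_mul]
    exact card_nsmul_le_sum _ _ _ fun j _ => hc j
  -- the total
  have hKL : h ≤ ∑ i, #(Kf i) + #L := by
    have h3 : (univ : Finset (Fin h)) ⊆ univ.biUnion Kf ∪ L := by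
      intro j _
      rcases hOX j with h4 | h4
      · obtain ⟨i, hi, hmin⟩ : ∃ i, O j ⊆ X i ∧ ∀ i', O j ⊆ X i' → i ≤ i' := by
          have hex : ((univ : Finset (Fin R)).filter fun i => O j ⊆ X i).Nonempty := by
            obtain ⟨i, hi⟩ := h4
            exact ⟨i, mem_filter.2 ⟨mem_univ _, hi⟩⟩
          refine ⟨((univ : Finset (Fin R)).filter fun i => O j ⊆ X i).min' hex, ?_, fun i' hi' => ?_⟩
          · exact (mem_filter.1 (Finset.min'_mem ((univ : Finset (Fin R)).filter fun i => O j ⊆ X i) hex)).2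
          · exact Finset.min'_le ((univ : Finset (Fin R)).filter fun i => O j ⊆ X i) i'
              (Finset.mem_filter.2 ⟨Finset.mem_univ _, hi'⟩)
        exact mem_union_left _ (mem_biUnion.2 ⟨i, mem_univ _, mem_filter.2 ⟨mem_univ _, hi, hmin⟩⟩)
      · exact mem_union_right _ (mem_filter.2 ⟨mem_univ _, h4⟩)
    calc h = #(univ : Finset (Fin h)) := by rw [card_univ, Fintype.card_fin]
      _ ≤ #(univ.biUnion Kf ∪ L) := card_le_card h3
      _ ≤ #(univ.biUnion Kf) + #L := card_union_le _ _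
      _ ≤ ∑ i, #(Kf i) + #L := by gcongr; exact card_biUnion_le
  have hLh : #L ≤ h := (card_le_univ _).trans (by rw [Fintype.card_fin])
  refine ⟨h - #L, #L, #(Rest.image q), by omega, hrest, ?_⟩
  have h5 : ∑ i, (1 + #(Kf i) * s) ≤ ∑ i, #((X i).image q) := sum_le_sum fun i _ => hfam i
  rw [sum_add_distrib, ← sum_mul, sum_const, card_univ, Fintype.card_fin, smul_eq_mul, mul_one] at h5
  have h6 : (h - #L) * s ≤ (∑ i, #(Kf i)) * s := Nat.mul_le_mul_right _ (by omega)
  omega

end Cfsg.Agent.H668.XZ.Comb
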