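import Cfsg.Agent.H668.XZ.Fam
import Cfsg.Agent.H668.XZ.Comb

/-!
# S4791 + S4927, K10: families with orbits of length at most two (helper668)

`S` has `R ≥ e + 1` disjoint families `X i` of irreducible characters, stable under the automorphisms, meeting `X0(S)`, all
members fixed by a subgroup `Γ` of index at most two in `Aut(S)`, and `(c + 1) / 2` Galois orbits `O j` of length at least `c`
(`e c = p - 1`), each of them inside a family or outside all families. Then `Row0 p M S`.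
-/

set_option autoImplicit false

open Cfsg Subgroup
open Cfsg.Agent.H674.XZ Cfsg.Agent.H508.KB
open Cfsg.Agent.Characters.Core
open Cfsg.Agent.Blocks.Local

namespace Cfsg.Agent.H668.XZ

universe u

set_option linter.unusedSectionVars false

variable {p : ℕ} [Fact p.Prime] {M : Ideal AlgInt}

theorem autOf_mul {S : Type u} [Group S] {A : Type u} [Group A] (T : Subgroup A) [T.Normal] (e : S ≃* ↥T) (a b : A) :
    autOf T e (a * b) = autOf T e a * autOf T e b := by
  ext s
  rw [MulAut.mul_apply, autOf_apply, autOf_apply, autOf_apply, e.apply_symm_apply, map_mul, MulAut.mul_apply]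

theorem autOf_one {S : Type u} [Group S] {A : Type u} [Group A] (T : Subgroup A) [T.Normal] (e : S ≃* ↥T) :
    autOf T e 1 = 1 := by
  ext s
  rw [MulAut.one_apply, autOf_apply, map_one, MulAut.one_apply, e.symm_apply_apply]

theorem autOf_inv {S : Type u} [Group S] {A : Type u} [Group A] (T : Subgroup A) [T.Normal] (e : S ≃* ↥T) (a : A) :
    autOf T e a⁻¹ = (autOf T e a)⁻¹ := by
  rw [eq_inv_iff_mul_eq_one, ← autOf_mul, inv_mul_cancel, autOf_one]

/-- transport of a member of `X0(S)` -/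
def tr {S : Type u} [Group S] [Finite S] {A : Type u} [Group A] [Finite A] (T : Subgroup A) (e : S ≃* ↥T)
    (θ : {χ : IrrCharacter S // Mem0 p M χ}) : {χ : IrrCharacter ↥T // Mem0 p M χ} :=
  ⟨⟨fun g => (θ.1 : S → ℂ) (e.symm g), isIrr_comp e.symm.toMonoidHom e.symm.surjective θ.1.2⟩, mem0_comp e.symm θ.2⟩

theorem tr_injective {S : Type u} [Group S] [Finite S] {A : Type u} [Group A] [Finite A] (T : Subgroup A) (e : S ≃* ↥T) :
    Function.Injective (tr (p := p) (M := M) T e) := by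
  intro x y h
  have h1 : ∀ g : ↥T, (x.1 : S → ℂ) (e.symm g) = (y.1 : S → ℂ) (e.symm g) := fun g =>
    congrArg (fun z : {χ : IrrCharacter ↥T // Mem0 p M χ} => (z.1 : ↥T → ℂ) g) h
  apply Subtype.ext
  apply Subtype.ext
  funext s
  have h2 := h1 (e s)
  rwa [e.symm_apply_apply] at h2

/-- the orbit map -/
def qq {S : Type u} [Group S] [Finite S] {A : Type u} [Group A] [Finite A] (T : Subgroup A) [T.Normal] (e : S ≃* ↥T)
    (θ : {χ : IrrCharacter S // Mem0 p M χ}) : Quotient (orbSetoid0 p M T) :=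
  Quotient.mk (orbSetoid0 p M T) (tr T e θ)

theorem qq_eq {S : Type u} [Group S] [Finite S] {A : Type u} [Group A] [Finite A] (T : Subgroup A) [T.Normal] (e : S ≃* ↥T)
    {x y : {χ : IrrCharacter S // Mem0 p M χ}} (h : qq T e y = qq T e x) :
    ∃ a : A, ∀ s, (y.1 : S → ℂ) s = (x.1 : S → ℂ) (autOf T e a s) := by
  obtain ⟨a, ha⟩ := Quotient.exact h.symm
  refine ⟨a, fun s => ?_⟩
  have h1 := ha (e s)
  change (y.1 : S → ℂ) (e.symm (e s)) = (x.1 : S → ℂ) (e.symm (MulAut.conjNormal a (e s))) at h1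
  rw [e.symm_apply_apply] at h1
  exact h1

open Classical in
/-- the number of orbits -/
theorem le_kap0_of {S : Type u} [Group S] [Finite S] {R h c b s : ℕ} (hM : IsPModular p M)
    (X : Fin R → Set (IrrCharacter S)) (hX : ∀ i j, i ≠ j → Disjoint (X i) (X j)) (hne : ∀ i, ∃ θ ∈ X i, Mem0 p M θ)
    (hst : ∀ i, ∀ θ ∈ X i, Mem0 p M θ → ∀ θ' : IrrCharacter S, ∀ α : MulAut S, H443.XC.PrA p α →
      (∀ s, (θ' : S → ℂ) s = (θ : S → ℂ) (α s)) → θ' ∈ X i)
    (O : Fin h → Set (IrrCharacter S)) (hO0 : ∀ j, ∀ θ ∈ O j, Mem0 p M θ)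
    (hOd : ∀ i j, i ≠ j → Disjoint (O i) (O j)) (hOc : ∀ j, c ≤ (O j).ncard)
    (hOX : ∀ j, (∃ i, O j ⊆ X i) ∨ ∀ i, Disjoint (O j) (X i))
    {A : Type u} [Group A] [Finite A] (T : Subgroup A) [T.Normal] (e : S ≃* ↥T) (hcop : ¬ p ∣ T.index)
    (hs : ∀ k y, 1 ≤ y → k * c ≤ b * y → 1 + k * s ≤ y)
    (h2 : ∀ i, ∀ x : {χ : IrrCharacter S // Mem0 p M χ}, x.1 ∈ X i →
      Nat.card {y : {χ : IrrCharacter S // Mem0 p M χ} // qq T e y = qq T e x} ≤ b) :
    ∃ k l y, k + l = h ∧ l * c ≤ (hull p T).index * y ∧ R + k * s + y ≤ kap0 p M T := by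
  have hfin : Finite (IrrCharacter S) := finite_irr
  have hfinT : Finite (IrrCharacter ↥T) := finite_irr
  have hfq := finite_quot0 (p := p) (M := M) T
  let _ : Fintype {χ : IrrCharacter S // Mem0 p M χ} := Fintype.ofFinite _
  let _ : Fintype (Quotient (orbSetoid0 p M T)) := Fintype.ofFinite _
  have hk : kap0 p M T = Fintype.card (Quotient (orbSetoid0 p M T)) := Nat.card_eq_fintype_card
  rw [hk]
  refine Comb.count (qq T e) hs (fun i => Finset.univ.filter fun θ => θ.1 ∈ X i) ?_ ?_ ?_ ?_ ?_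
    (fun j => Finset.univ.filter fun θ => θ.1 ∈ O j) ?_ ?_ ?_
  · intro i j hij
    rw [Finset.disjoint_left]
    intro x hx hy
    exact Set.disjoint_left.1 (hX i j hij) (Finset.mem_filter.1 hx).2 (Finset.mem_filter.1 hy).2
  · intro i
    obtain ⟨θ, h3, h4⟩ := hne i
    exact ⟨⟨θ, h4⟩, Finset.mem_filter.2 ⟨Finset.mem_univ _, h3⟩⟩
  · intro i x y hx hyx
    obtain ⟨a, ha⟩ := qq_eq T e hyx
    exact Finset.mem_filter.2 ⟨Finset.mem_univ _, hst i x.1 (Finset.mem_filter.1 hx).2 x.2 y.1 _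
      (prA_of_conj T e hcop a) ha⟩
  · intro i x hx
    refine le_trans (le_of_eq ?_) (h2 i x (Finset.mem_filter.1 hx).2)
    rw [Nat.card_eq_fintype_card, Fintype.card_subtype]
  · intro x
    refine le_trans ?_ (card_orbit_le0 T hM hcop (tr T e x))
    rw [← Fintype.card_subtype, ← Nat.card_eq_fintype_card]
    refine Nat.card_le_card_of_injective (fun y : {y : {χ : IrrCharacter S // Mem0 p M χ} // qq T e y = qq T e x} =>
      (⟨tr T e y.1, Quotient.exact y.2.symm⟩ :
        {z : {χ : IrrCharacter ↥T // Mem0 p M χ} // (orbSetoid0 p M T) (tr T e x) z})) ?_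
    intro y z hyz
    exact Subtype.ext (tr_injective T e (congrArg Subtype.val hyz))
  · intro i j hij
    rw [Finset.disjoint_left]
    intro x hx hy
    exact Set.disjoint_left.1 (hOd i j hij) (Finset.mem_filter.1 hx).2 (Finset.mem_filter.1 hy).2
  · intro j
    refine (hOc j).trans ?_
    rw [← Nat.card_coe_set_eq, ← Fintype.card_coe, ← Nat.card_eq_fintype_card]
    refine Nat.card_le_card_of_injective (fun θ : ↥(O j) =>
      (⟨⟨θ.1, hO0 j θ.1 θ.2⟩, Finset.mem_filter.2 ⟨Finset.mem_univ _, θ.2⟩⟩ :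
        {x // x ∈ Finset.univ.filter fun θ : {χ : IrrCharacter S // Mem0 p M χ} => θ.1 ∈ O j})) ?_
    intro y z hyz
    exact Subtype.ext (congrArg (fun w : {x // x ∈ Finset.univ.filter fun θ : {χ : IrrCharacter S // Mem0 p M χ} =>
      θ.1 ∈ O j} => w.1.1) hyz)
  · intro j
    rcases hOX j with ⟨i, h3⟩ | h3
    · refine Or.inl ⟨i, fun x hx => ?_⟩
      exact Finset.mem_filter.2 ⟨Finset.mem_univ _, h3 (Finset.mem_filter.1 hx).2⟩
    · refine Or.inr fun i => ?_
      rw [Finset.disjoint_left]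
      intro x hx hy
      exact Set.disjoint_left.1 (h3 i) (Finset.mem_filter.1 hx).2 (Finset.mem_filter.1 hy).2

/-- orbits of length at most two -/
theorem card_fiber_le_two {S : Type u} [Group S] [Finite S] {A : Type u} [Group A] [Finite A] (T : Subgroup A) [T.Normal]
    (e : S ≃* ↥T) (hcop : ¬ p ∣ T.index) (Γ : Subgroup (MulAut S)) (hΓ : Γ.index ≤ 2)
    (x : {χ : IrrCharacter S // Mem0 p M χ})
    (hfix : ∀ α ∈ Γ, H443.XC.PrA p α → ∀ s, (x.1 : S → ℂ) (α s) = (x.1 : S → ℂ) s) :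
    Nat.card {y : {χ : IrrCharacter S // Mem0 p M χ} // qq T e y = qq T e x} ≤ 2 := by
  classical
  have hfin : Finite (IrrCharacter S) := finite_irr
  have hfinM : Finite (MulAut S) := Finite.of_injective (fun g : MulAut S => (g : S → S)) DFunLike.coe_injective
  let _ : Fintype {χ : IrrCharacter S // Mem0 p M χ} := Fintype.ofFinite _
  let _ : Fintype (Quotient (orbSetoid0 p M T)) := @Fintype.ofFinite _ (finite_quot0 (p := p) (M := M) T)
  have key : ∀ y z : {χ : IrrCharacter S // Mem0 p M χ}, qq T e y = qq T e x → qq T e z = qq T e x →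
      y ≠ x → z ≠ x → y = z := by
    intro y z hy hz hyx hzx
    obtain ⟨a, ha⟩ := qq_eq T e hy
    obtain ⟨b, hb⟩ := qq_eq T e hz
    have h1 : ∀ (w : {χ : IrrCharacter S // Mem0 p M χ}) (a : A), (∀ s, (w.1 : S → ℂ) s = (x.1 : S → ℂ) (autOf T e a s)) →
        w ≠ x → autOf T e a ∉ Γ := by
      intro w a ha hwx hΓa
      apply hwx
      apply Subtype.ext
      apply Subtype.ext
      funext s
      rw [ha, hfix _ hΓa (prA_of_conj T e hcop a)]
    have h3 := h1 y a ha hyx
    have h4 := h1 z b hb hzx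
    have hidx : Γ.index = 2 := by
      have h5 : Γ.index ≠ 0 := Subgroup.index_ne_zero_of_finite
      have h6 : Γ.index ≠ 1 := fun h => h3 (by rw [Subgroup.index_eq_one.1 h]; trivial)
      omega
    have h5 : autOf T e (b * a⁻¹) ∈ Γ := by
      rw [autOf_mul, autOf_inv, Subgroup.mul_mem_iff_of_index_two hidx, inv_mem_iff]
      exact ⟨fun h => absurd h h4, fun h => absurd h h3⟩
    apply Subtype.ext
    apply Subtype.ext
    funext s
    rw [ha, hb]
    have h6 := hfix _ h5 (prA_of_conj T e hcop _) (autOf T e a s)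
    rw [autOf_mul, autOf_inv, MulAut.mul_apply, MulAut.inv_apply_self] at h6
    exact h6.symm
  rw [Nat.card_eq_fintype_card, Fintype.card_subtype]
  by_contra hcon
  push Not at hcon
  obtain ⟨y, z, w, hy, hz, hw, h1, h2, h3⟩ := Finset.two_lt_card_iff.1 hcon
  have hy' := (Finset.mem_filter.1 hy).2
  have hz' := (Finset.mem_filter.1 hz).2
  have hw' := (Finset.mem_filter.1 hw).2
  by_cases hyx : y = x
  · exact h3 (key z w hz' hw' (fun h => h1 (hyx.trans h.symm)) fun h => h2 (hyx.trans h.symm))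
  · by_cases hzx : z = x
    · exact h2 (key y w hy' hw' hyx fun h => h3 (hzx.trans h.symm))
    · exact h1 (key y z hy' hz' hyx hzx)

/-- **K10** -/
theorem row0_of_two (hM : IsPModular p M) {S : Type u} [Group S] [Finite S] (hab : AbOut p S)
    {e c R : ℕ} (hec : e * c = p - 1) (he : 3 ≤ e) (hR : e + 1 ≤ R) (h44 : e = 4 → c = 4 → 6 ≤ R)
    (Γ : Subgroup (MulAut S)) (hΓ : Γ.index ≤ 2)
    (X : Fin R → Set (IrrCharacter S)) (hX : ∀ i j, i ≠ j → Disjoint (X i) (X j)) (hne : ∀ i, ∃ θ ∈ X i, Mem0 p M θ)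
    (hst : ∀ i, ∀ θ ∈ X i, Mem0 p M θ → ∀ θ' : IrrCharacter S, ∀ α : MulAut S, H443.XC.PrA p α →
      (∀ s, (θ' : S → ℂ) s = (θ : S → ℂ) (α s)) → θ' ∈ X i)
    (hfix : ∀ i, ∀ θ ∈ X i, Mem0 p M θ → ∀ α ∈ Γ, H443.XC.PrA p α → ∀ s, (θ : S → ℂ) (α s) = (θ : S → ℂ) s)
    (O : Fin ((c + 1) / 2) → Set (IrrCharacter S)) (hO0 : ∀ j, ∀ θ ∈ O j, Mem0 p M θ)
    (hOd : ∀ i j, i ≠ j → Disjoint (O i) (O j)) (hOc : ∀ j, c ≤ (O j).ncard)
    (hOX : ∀ j, (∃ i, O j ⊆ X i) ∨ ∀ i, Disjoint (O j) (X i)) : Row0 p M S := by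
  intro A _ _ T _ ⟨eq⟩ hcen hcop t n ht ⟨g, hg, hn⟩
  have hc : 1 ≤ c := by
    rcases Nat.eq_zero_or_pos c with rfl | h
    · have := (Fact.out : p.Prime).two_le
      omega
    · exact h
  have hker : ker M T = (hull p T).index := ker_eq_index T hM hcop (comm_mem_hull T eq hab hcen hcop)
  have hsum := ker_add_kap_le0 T hM hcop
  have h1 : (kap0 p M T + t - 1).choose t + g ≤ n + 1 := by omega
  have hp1 : 4 * (p - 1) = 4 * (e * c) := by rw [hec]
  rw [hp1]
  rw [hker] at hg
  have hf0 : (hull p T).index ≠ 0 := Subgroup.index_ne_zero_of_finite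
  by_cases hf : (hull p T).index = 1
  · -- all orbits have length one
    obtain ⟨k, l, y, h2, h3, h4⟩ := le_kap0_of (b := 1) (s := c - 1) hM X hX hne hst O hO0 hOd hOc hOX T eq hcop
      (fun k y => Comb.arith_one) (fun i x _ => by
        have hfin : Finite (IrrCharacter S) := finite_irr
        have hfinT : Finite (IrrCharacter ↥T) := finite_irr
        rw [← hf]
        refine le_trans ?_ (card_orbit_le0 T hM hcop (tr T eq x))
        refine Nat.card_le_card_of_injective (fun y : {y : {χ : IrrCharacter S // Mem0 p M χ} // qq T eq y = qq T eq x} =>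
          (⟨tr T eq y.1, Quotient.exact y.2.symm⟩ :
            {z : {χ : IrrCharacter ↥T // Mem0 p M χ} // (orbSetoid0 p M T) (tr T eq x) z})) ?_
        intro y z hyz
        exact Subtype.ext (tr_injective T eq (congrArg Subtype.val hyz)))
    rw [hf, one_mul] at h3
    refine Comb.num_one hc he hR (κ := kap0 p M T) ?_ ht (by omega) h1
    rw [← h2]
    have h5 : (k + l) * (c - 1) = k * (c - 1) + l * (c - 1) := add_mul _ _ _
    have h6 : l * (c - 1) ≤ l * c := Nat.mul_le_mul_left _ (by omega)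
    omega
  · obtain ⟨k, l, y, h2, h3, h4⟩ := le_kap0_of (b := 2) (s := (c + 1) / 2 - 1) hM X hX hne hst O hO0 hOd hOc hOX T eq hcop
      (fun k y => Comb.arith_fam) (fun i x hx => card_fiber_le_two T eq hcop Γ hΓ x (hfix i x.1 hx x.2))
    exact Comb.num_two hc he hR h44 (by omega) h2 h3 h4 ht hg h1

end Cfsg.Agent.H668.XZ
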