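import Cfsg.Agent.H668.XZ.Prod
import Cfsg.Agent.H538.KB.Two

/-!
# S4791 + S4927, T1a: members of `X0(G)` over product characters (multisets of orbits) (helper668)

Port of `H538.KB.Two` with `Mem0` in place of the principal block.
-/

set_option autoImplicit false

open Cfsg Subgroup Cfsg.Agent.H508.KB Cfsg.Agent.H674.XZ
open Cfsg.Agent.Lib.MinNormalNonabelian Cfsg.Agent.H531.LemX
open Cfsg.Agent.H978.Alm.Nonab
open Cfsg.Agent.H538.KB (card_sym_le exists_fun eq_of_prop one_ne_zero' mem_im conj_mem eV eV_apply)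
open scoped ComplexConjugate

namespace Cfsg.Agent.H668.XZ

universe u

open Cfsg.Agent.Characters.Core

/-! ### The product characters -/

section main

attribute [local instance] Cfsg.Agent.H531.Red.act

variable {p : ℕ} [Fact p.Prime] {M : Ideal AlgInt}
variable {G : Type u} [Group G] [Finite G] {N : Subgroup G} [N.Normal] {T : minSet N} {A : Type u} [Group A] [Finite A]
  {π : ↥(normalizer (T.1 : Set G)) →* A}

/-- the representative of a class -/
noncomputable def rho [(Im π).Normal] (q : Quotient (orbSetoid0 p M (Im π))) : IrrCharacter (Im π) := (Quotient.out q).1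

/-- `Θ` is the product of the characters given by `f` -/
def Pd [(Im π).Normal] (tr : minSet N → G) (f : minSet N → Quotient (orbSetoid0 p M (Im π))) (Θ : IrrCharacter N) : Prop :=
  ∀ (V : minSet N) (s : G) (hs : s ∈ T.1) (n : N), (n : G) = tr V * s * (tr V)⁻¹ →
    (Θ : N → ℂ) n * (rho (f V) : Im π → ℂ) 1 = (Θ : N → ℂ) 1 * (rho (f V) : Im π → ℂ) ⟨π ⟨s, le_normalizer hs⟩, mem_im hs⟩

theorem exists_pd (hM : IsPModular p M) (D : Dat N T π) [(Im π).Normal] {tr : minSet N → G} (htr : ∀ V, tr V • T = V)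
    (f : minSet N → Quotient (orbSetoid0 p M (Im π))) :
    ∃ Θ : IrrCharacter N, Mem0 p M Θ ∧ Pd tr f Θ := by
  obtain ⟨Θ, h1, h2⟩ := exists_prod0 hM D.str
    (fun V => ⟨fun v => (rho (f V) : Im π → ℂ) (eV D htr V v),
      isIrr_comp (eV D htr V).toMonoidHom (eV D htr V).surjective (rho (f V)).2⟩)
    (fun V => mem0_comp (eV D htr V) (Quotient.out (f V)).2)
  refine ⟨Θ, h1, ?_⟩
  intro V s hs n hn
  have hnV : (n : G) ∈ V.1 := by
    rw [hn]
    exact conj_mem (htr V) hs
  have h3 := h2 V n hnV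
  have h4 : (rho (f V) : Im π → ℂ) (eV D htr V 1) = (rho (f V) : Im π → ℂ) 1 := by rw [map_one]
  have h5 : (rho (f V) : Im π → ℂ) (eV D htr V ⟨n, hnV⟩) =
      (rho (f V) : Im π → ℂ) ⟨π ⟨s, le_normalizer hs⟩, mem_im hs⟩ := by rw [eV_apply D htr V hs ⟨n, hnV⟩ hn]
  rw [← h4, ← h5]
  exact h3

omit [Fact p.Prime] in
/-- conjugate product characters come from conjugate functions -/
theorem pd_conj (D : Dat N T π) [(Im π).Normal] {tr : minSet N → G} (htr : ∀ V, tr V • T = V)
    {f f' : minSet N → Quotient (orbSetoid0 p M (Im π))} {Θ Θ' : IrrCharacter N} (h : Pd tr f Θ) (h' : Pd tr f' Θ') {g : G}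
    (hg : (Θ' : N → ℂ) = (Θ : N → ℂ) ∘ (MulAut.conjNormal g : MulAut N)) (V : minSet N) : f' V = f (g • V) := by
  have hu : (tr (g • V))⁻¹ * g * tr V ∈ normalizer (T.1 : Set G) := by
    rw [← mem_normalizer_iff_smul, mul_smul, mul_smul, htr]
    nth_rewrite 2 [← htr (g • V)]
    rw [inv_smul_smul]
  set u : G := (tr (g • V))⁻¹ * g * tr V with hudef
  have h1 : (Θ' : N → ℂ) 1 = (Θ : N → ℂ) 1 := by
    rw [hg, Function.comp_apply, map_one]
  have hΘ1 := one_ne_zero' Θ.2
  have key : (rho (f' V) : Im π → ℂ) = fun b => (rho (f (g • V)) : Im π → ℂ) (MulAut.conjNormal (π ⟨u, hu⟩) b) := by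
    refine eq_of_prop (rho (f' V)).2 (isIrr_comp (MulAut.conjNormal (π ⟨u, hu⟩) : MulAut (Im π)).toMonoidHom
      (MulEquiv.surjective _) (rho (f (g • V))).2) (one_ne_zero' (rho (f (g • V))).2) (one_ne_zero' (rho (f' V)).2) ?_
    rintro ⟨b, hb⟩
    obtain ⟨s, hs, rfl⟩ := D.mem_map.1 hb
    have hnN : tr V * s * (tr V)⁻¹ ∈ N := V.2.1 (conj_mem (htr V) hs)
    have e1 := h' V s hs ⟨_, hnN⟩ rfl
    have husu : u * s * u⁻¹ ∈ T.1 := (mem_normalizer_iff.mp hu s).mp hs
    have e2 := h (g • V) (u * s * u⁻¹) husu (MulAut.conjNormal g ⟨_, hnN⟩) (by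
      rw [MulAut.conjNormal_apply]
      show g * (tr V * s * (tr V)⁻¹) * g⁻¹ = tr (g • V) * (u * s * u⁻¹) * (tr (g • V))⁻¹
      rw [hudef]
      group)
    have e3 : (⟨π ⟨u * s * u⁻¹, le_normalizer husu⟩, mem_im husu⟩ : Im π) =
        MulAut.conjNormal (π ⟨u, hu⟩) ⟨π ⟨s, le_normalizer hs⟩, hb⟩ := by
      apply Subtype.ext
      rw [MulAut.conjNormal_apply]
      show π _ = π _ * π _ * (π _)⁻¹
      rw [← map_inv, ← map_mul, ← map_mul]
      rfl
    rw [e3] at e2
    have e4 : (Θ' : N → ℂ) ⟨_, hnN⟩ = (Θ : N → ℂ) (MulAut.conjNormal g ⟨_, hnN⟩) := by rw [hg]; rfl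
    rw [e4, h1] at e1
    apply mul_left_cancel₀ hΘ1
    linear_combination (rho (f' V) : Im π → ℂ) 1 * e2 - (rho (f (g • V)) : Im π → ℂ) 1 * e1
  have h2 : Quotient.mk (orbSetoid0 p M (Im π)) (Quotient.out (f (g • V))) =
      Quotient.mk (orbSetoid0 p M (Im π)) (Quotient.out (f' V)) :=
    Quotient.sound ⟨π ⟨u, hu⟩, fun b => congrFun key b⟩
  rw [Quotient.out_eq, Quotient.out_eq] at h2
  exact h2.symm

/-- the class of the trivial character -/
noncomputable def q0 [(Im π).Normal] (hM : IsPModular p M) : Quotient (orbSetoid0 p M (Im π)) :=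
  Quotient.mk _ ⟨⟨fun _ => 1, Cfsg.Agent.Blocks.Basic.isIrrCharacter_one⟩, by
    have hMp : M.IsPrime := hM.2.1.isPrime
    exact mem0_one (Im π)⟩

/-- the components on which the product character is not trivial -/
theorem pd_ne (hM : IsPModular p M) (D : Dat N T π) [(Im π).Normal] {tr : minSet N → G} (htr : ∀ V, tr V • T = V)
    {f : minSet N → Quotient (orbSetoid0 p M (Im π))} {Θ : IrrCharacter N} (h : Pd tr f Θ) (V : minSet N) :
    (∃ n : N, (n : G) ∈ V.1 ∧ (Θ : N → ℂ) n ≠ (Θ : N → ℂ) 1) ↔ f V ≠ q0 hM := by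
  have hΘ1 := one_ne_zero' Θ.2
  constructor
  · rintro ⟨n, hn, hne⟩ hq
    apply hne
    have hs : (tr V)⁻¹ * (n : G) * (tr V)⁻¹⁻¹ ∈ T.1 :=
      conj_mem (by nth_rewrite 2 [← htr V]; rw [inv_smul_smul]) hn
    have e1 := h V _ hs n (by group)
    have h1 : Quotient.mk (orbSetoid0 p M (Im π)) (Quotient.out (f V)) = q0 hM := by rw [Quotient.out_eq, hq]
    obtain ⟨a, ha⟩ := Quotient.exact h1.symm
    have h2 : ∀ b : Im π, (rho (f V) : Im π → ℂ) b = 1 := fun b => ha b
    rw [h2, h2, mul_one, mul_one] at e1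
    exact e1
  · intro hq
    by_contra hcon
    push Not at hcon
    apply hq
    have h1 : (rho (f V) : Im π → ℂ) = fun _ => 1 := by
      refine eq_of_prop (rho (f V)).2 Cfsg.Agent.Blocks.Basic.isIrrCharacter_one one_ne_zero
        (one_ne_zero' (rho (f V)).2) ?_
      rintro ⟨b, hb⟩
      obtain ⟨s, hs, rfl⟩ := D.mem_map.1 hb
      have hnV : tr V * s * (tr V)⁻¹ ∈ V.1 := conj_mem (htr V) hs
      have e1 := h V s hs ⟨_, V.2.1 hnV⟩ rfl
      rw [hcon _ hnV] at e1
      rw [mul_one, one_mul]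
      exact (mul_left_cancel₀ hΘ1 e1).symm
    rw [← Quotient.out_eq (f V)]
    refine Quotient.sound ⟨1, fun b => ?_⟩
    show (1 : ℂ) = (rho (f V) : Im π → ℂ) _
    rw [h1]

open Classical in
/-- **T1a** -/
theorem card_two_le0 (hM : IsPModular p M) (D : Dat N T π) [(Im π).Normal] (hcop : ¬ p ∣ N.index) :
    (kap0 p M (Im π) + Nat.card (minSet N) - 1).choose (Nat.card (minSet N)) ≤
      Nat.card {χ : IrrCharacter G // Mem0 p M χ ∧ ∃ j, 2 ≤ j ∧ NT N χ j} + kap0 p M (Im π) := by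
  have : Fintype G := Fintype.ofFinite G
  have : Fintype N := Fintype.ofFinite N
  have : Fintype (minSet N) := Fintype.ofFinite _
  have hfinI : Finite (IrrCharacter (Im π)) := finite_irr
  have hfinG : Finite (IrrCharacter G) := finite_irr
  let Q := Quotient (orbSetoid0 p M (Im π))
  have hfinQ : Finite Q := inferInstance
  have : Fintype Q := Fintype.ofFinite _
  set t := Nat.card (minSet N) with ht
  have htf : Fintype.card (minSet N) = t := by rw [ht, Nat.card_eq_fintype_card]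
  have hne : Nonempty (minSet N) := ⟨T⟩
  have ht1 : 1 ≤ t := Nat.card_pos
  have hκ : kap0 p M (Im π) = Fintype.card Q := by
    rw [← Nat.card_eq_fintype_card]
    rfl
  choose tr htr using D.str.trans T
  obtain ⟨P⟩ : Nonempty (Sylow p G) := inferInstance
  have hPN : (P : Subgroup G) ≤ normalizer (N : Set G) := (Cfsg.Agent.H590.KB.sylow_le P hcop).trans le_normalizer
  -- the data of a multiset
  have key : ∀ s : Sym Q t, ∃ (f : minSet N → Q) (Θ : IrrCharacter N) (χ : IrrCharacter G),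
      Multiset.map f Finset.univ.val = (s : Multiset Q) ∧ Pd tr f Θ ∧ Mem0 p M χ ∧ Over N χ Θ := by
    intro s
    obtain ⟨f, hf⟩ := exists_fun htf s
    obtain ⟨Θ, h1, h2⟩ := exists_pd hM D htr f
    obtain ⟨χ, h3, h4⟩ := Cfsg.Agent.H656.OverPrincipal.exists_over hM N P hPN Θ h1.1
    exact ⟨f, Θ, χ, hf, h2, mem0_of_over N hcop χ h3 Θ (over_iff.2 h4) h1, over_iff.2 h4⟩
  choose f Θ χ hf hΘ hχ hover using key
  have hinj : Function.Injective χ := by
    intro s s' hss
    have h1 := over_iff.1 (hover s)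
    have h2 := over_iff.1 (hover s')
    rw [← hss] at h2
    obtain ⟨g, hg⟩ := Characters.Clifford.exists_conj_of_constituents N (χ s).2 (Θ s).2 (Θ s').2 h1 h2
    have h3 : f s' = f s ∘ (MulAction.toPerm g : Equiv.Perm (minSet N)) :=
      funext fun V => pd_conj D htr (hΘ s) (hΘ s') hg V
    apply Subtype.ext
    show (s : Multiset Q) = (s' : Multiset Q)
    rw [← hf s, ← hf s', h3, ← Multiset.map_map]
    congr 1
    have h4 := Finset.map_univ_equiv (MulAction.toPerm g : Equiv.Perm (minSet N))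
    nth_rewrite 1 [← h4]
    rfl
  have hNT : ∀ s : Sym Q t, NT N (χ s) ((s : Multiset Q).countP (· ≠ q0 hM)) := by
    intro s
    refine ⟨Θ s, hover s, ?_⟩
    rw [← hf s, Multiset.countP_map, Nat.card_eq_fintype_card, Fintype.card_subtype]
    show _ = Multiset.card (Finset.univ.filter fun V => f s V ≠ q0 hM).val
    rw [Finset.card_val]
    congr 1
    ext V
    rw [Finset.mem_filter, Finset.mem_filter, pd_ne hM D htr (hΘ s) V]
  have h1 : Nat.card (Sym Q t) = (kap0 p M (Im π) + t - 1).choose t := by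
    rw [Nat.card_eq_fintype_card, hκ, Sym.card_sym_eq_choose]
  have h2 : Nat.card {s : Sym Q t // 2 ≤ (s : Multiset Q).countP (· ≠ q0 hM)} ≤
      Nat.card {χ : IrrCharacter G // Mem0 p M χ ∧ ∃ j, 2 ≤ j ∧ NT N χ j} := by
    refine Nat.card_le_card_of_injective (fun s => ⟨χ s.1, hχ s.1, _, s.2, hNT s.1⟩) ?_
    intro s s' hss
    exact Subtype.ext (hinj (congrArg Subtype.val hss))
  have h3 := card_sym_le (q0 (π := π) hM) ht1
  have h4 : Nat.card (Sym Q t) = Nat.card {s : Sym Q t // 2 ≤ (s : Multiset Q).countP (· ≠ q0 hM)} +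
      Nat.card {s : Sym Q t // ¬ 2 ≤ (s : Multiset Q).countP (· ≠ q0 hM)} := by
    rw [← Nat.card_sum]
    exact (Nat.card_congr (Equiv.sumCompl _)).symm
  rw [← h1, h4]
  exact Nat.add_le_add h2 h3

end main

end Cfsg.Agent.H668.XZ
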