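import Cfsg.Agent.H668.XZ.One
import Cfsg.Agent.H668.XZ.Two
import Cfsg.Agent.H978.KB.Case

/-!
# S4791 + S4927, T2: the case of a nonabelian minimal normal subgroup (helper668)

`exists_cnt` : `G` with a nonabelian minimal normal subgroup `N` of index prime to `p`, `C_G(N) = 1`. There is an almost simple
group `A` with socle `S` of index prime to `p` and `t ≥ 1` with `Cnt p M S t (x0 p M G)`; if `t = 1` and the Sylow
`p`-subgroups of `S` are cyclic, the Sylow `p`-subgroups of `G` are cyclic.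
-/

set_option autoImplicit false

open Cfsg Subgroup Cfsg.Agent.H508.KB Cfsg.Agent.H674.XZ
open Cfsg.Agent.Lib.MinNormalNonabelian Cfsg.Agent.H531.LemX
open Cfsg.Agent.H978.Alm.Nonab

namespace Cfsg.Agent.H668.XZ

universe u

variable {p : ℕ} [hp : Fact p.Prime] {M : Ideal AlgInt}

/-- the count, for the data of a component -/
theorem cnt_of_dat (hM : IsPModular p M) {G : Type u} [Group G] [Finite G] {N : Subgroup G} [N.Normal] {T : minSet N}
    {A : Type u} [Group A] [Finite A] {π : ↥(normalizer (T.1 : Set G)) →* A} (D : Dat N T π) [(Im π).Normal]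
    (hcop : ¬ p ∣ N.index) (hdN : p ∣ Nat.card N) : Cnt p M (Im π) (Nat.card (minSet N)) (x0 p M G) := by
  refine ⟨_, ker_le_mul0 hM D hcop hdN, ?_⟩
  have i1 := card_two_le0 hM D hcop
  have i2 := card_one_le0 hM D hcop hdN
  have hu := fun (χ : IrrCharacter G) {i j : ℕ} (hi : NT N χ i) (hj : NT N χ j) =>
    Cfsg.Agent.H395.KBUniq.NT_unique χ hi hj
  have := Fintype.ofFinite G
  have := Cfsg.Agent.Characters.Core.finite_irr (G := G)
  have i4 : Nat.card {χ : IrrCharacter G // Mem0 p M χ ∧ NT N χ 0} +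
      Nat.card {χ : IrrCharacter G // Mem0 p M χ ∧ NT N χ 1} +
      Nat.card {χ : IrrCharacter G // Mem0 p M χ ∧ ∃ j, 2 ≤ j ∧ NT N χ j} ≤ x0 p M G := by
    refine Cfsg.Agent.H978.KB.card_three_le (P := fun χ => Mem0 p M χ) (fun χ h => h.1) (fun χ h => h.1) (fun χ h => h.1)
      (fun χ h h' => ?_) (fun χ h h' => ?_) (fun χ h h' => ?_)
    · exact absurd (hu χ h.2 h'.2) (by norm_num)
    · obtain ⟨-, j, hj, h''⟩ := h'
      have := hu χ h.2 h''
      omega
    · obtain ⟨-, j, hj, h''⟩ := h'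
      have := hu χ h.2 h''
      omega
  omega

omit hp in
/-- cyclic Sylow subgroups, one component -/
theorem cyclic_of_dat [Fact p.Prime] {G : Type u} [Group G] [Finite G] {N : Subgroup G} [N.Normal] {T : minSet N}
    {A : Type u} [Group A] [Finite A] {π : ↥(normalizer (T.1 : Set G)) →* A} (D : Dat N T π)
    (hcop : ¬ p ∣ N.index) (h1 : Nat.card (minSet N) = 1) (Q : Sylow p (Im π)) (hQ : IsCyclic (Q : Subgroup (Im π)))
    (P : Sylow p G) : IsCyclic (P : Subgroup G) := by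
  have hPN : (P : Subgroup G) ≤ N := Cfsg.Agent.H590.KB.sylow_le P hcop
  have hNT : N ≤ T.1 := by
    nth_rewrite 1 [← D.str.gen]
    refine sSup_le fun V hV => ?_
    obtain ⟨hs, -⟩ := Nat.card_eq_one_iff_unique.1 h1
    have h2 : (⟨V, hV⟩ : minSet N) = T := Subsingleton.elim _ _
    rw [← h2]
  have hPT : (P : Subgroup G) ≤ T.1 := hPN.trans hNT
  let f : ↥(P : Subgroup G) →* ↥(Im π) :=
    { toFun := fun x => ⟨π ⟨x, le_normalizer (hPT x.2)⟩, D.mem_map.2 ⟨x, hPT x.2, rfl⟩⟩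
      map_one' := Subtype.ext (map_one π)
      map_mul' := fun a b => Subtype.ext (map_mul π ⟨a, le_normalizer (hPT a.2)⟩ ⟨b, le_normalizer (hPT b.2)⟩) }
  have hf : Function.Injective f := by
    rw [injective_iff_map_eq_one]
    intro x hx
    exact Subtype.ext (D.inj (hPT x.2) (congrArg Subtype.val hx))
  have hpf : IsPGroup p f.range := by
    have h2 : IsPGroup p (⊤ : Subgroup ↥(P : Subgroup G)) := P.isPGroup'.to_subgroup ⊤
    have h3 := h2.map f
    rwa [← MonoidHom.range_eq_map] at h3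
  obtain ⟨Q', hQ'⟩ := hpf.exists_le_sylow
  have hQc : IsCyclic (Q' : Subgroup (Im π)) := (Sylow.equiv Q' Q).isCyclic.2 hQ
  let g : ↥(P : Subgroup G) →* ↥(Q' : Subgroup (Im π)) :=
    f.codRestrict _ (fun x => hQ' ⟨x, rfl⟩)
  have hg : Function.Injective g := by
    intro a b hab
    exact hf (congrArg Subtype.val hab)
  exact isCyclic_of_injective g hg

/-- **T2** -/
theorem exists_cnt (hM : IsPModular p M) (G : Type u) [Group G] [Finite G] (N : Subgroup G) [N.Normal]
    (hmin : ∀ K : Subgroup G, K.Normal → K ≤ N → K = ⊥ ∨ K = N)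
    (hna : ¬ ∀ x ∈ N, ∀ y ∈ N, x * y = y * x) (hcen : centralizer (N : Set G) = ⊥) (hcop : ¬ p ∣ N.index)
    (hdN : p ∣ Nat.card N) :
    ∃ (A : Type u) (_ : Group A) (_ : Finite A) (S : Subgroup A) (_ : S.Normal), IsSimpleGroup S ∧
      ¬ IsMulCommutative S ∧ centralizer (S : Set A) = ⊥ ∧ ¬ p ∣ S.index ∧ p ∣ Nat.card S ∧
      ∃ t : ℕ, 1 ≤ t ∧ Cnt p M S t (x0 p M G) ∧
        (t = 1 → (∃ Q : Sylow p S, IsCyclic (Q : Subgroup S)) → ∀ P : Sylow p G, IsCyclic (P : Subgroup G)) := by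
  have hstr : Str N := Str.of N hmin hna
  obtain ⟨T0, hT0⟩ := hstr.nonempty
  let T : minSet N := ⟨T0, hT0⟩
  have : Nonempty (minSet N) := ⟨T⟩
  let π := (T.1.normalizerMonoidHom).rangeRestrict
  have D : Dat N T π := by
    refine ⟨hstr, MonoidHom.rangeRestrict_surjective _, fun u => ?_, hcen⟩
    rw [← MonoidHom.mem_ker, MonoidHom.ker_rangeRestrict, normalizerMonoidHom_ker, mem_subgroupOf, mem_centralizer_iff]
    exact ⟨fun h s hs => (h s hs).symm, fun h s hs => (h s hs).symm⟩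
  have hSn := D.im_normal
  refine ⟨_, inferInstance, inferInstance, Im π, hSn, D.im_simple, D.im_nonab, D.im_cen, D.im_index hcop, D.im_dvd hdN,
    Nat.card (minSet N), Nat.card_pos, cnt_of_dat hM D hcop hdN, ?_⟩
  rintro h1 ⟨Q, hQ⟩ P
  exact cyclic_of_dat D hcop h1 Q hQ P

end Cfsg.Agent.H668.XZ
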