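import Cfsg.Agent.H668.XZ.Case
import Cfsg.Agent.H774.KB.Reduce

/-!
# S4791 + S4927, R1: reduction to a minimal normal subgroup of index prime to `p`, strict form (helper668)

`reduce_lt` : for groups with noncyclic Sylow `p`-subgroups, `4 (p - 1) < x0 ^ 2`.
-/

set_option autoImplicit false

open Cfsg Subgroup Cfsg.Agent.H674.XZ

namespace Cfsg.Agent.H668.XZ

universe u v

variable {p : ℕ} [hp : Fact p.Prime] {M : Ideal AlgInt}

omit hp in
/-- inflation of members of `X0` -/
theorem mem0_infl (hM : IsPModular p M) {G : Type u} [Group G] [Finite G] {H : Type v} [Group H] [Finite H] (f : G →* H)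
    (hf : Function.Surjective f) {χ : IrrCharacter H} (h : Mem0 p M χ) : Mem0 p M (H684.BlockTools.infl f hf χ) := by
  refine ⟨H684.BlockTools.infl_mem hM f hf h.1, ?_, alm_comp f h.2.2⟩
  have h2 : charDegree (H684.BlockTools.infl f hf χ : G → ℂ) = charDegree (χ : H → ℂ) := by
    show ⌊((χ : H → ℂ) (f 1)).re⌋₊ = ⌊((χ : H → ℂ) 1).re⌋₊
    rw [map_one]
  rw [h2]
  exact h.2.1

omit hp in
theorem finite_mem0' {G : Type u} [Group G] [Finite G] : Finite {χ : IrrCharacter G // Mem0 p M χ} := by
  have hfin : Finite (IrrCharacter G) := Cfsg.Agent.Characters.Core.finite_irr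
  infer_instance

omit hp in
theorem x0_le_of_surjective (hM : IsPModular p M) {G : Type u} [Group G] [Finite G] {H : Type v} [Group H] [Finite H]
    (f : G →* H) (hf : Function.Surjective f) : x0 p M H ≤ x0 p M G := by
  have := finite_mem0' (p := p) (M := M) (G := G)
  refine Nat.card_le_card_of_injective (fun χ : {χ : IrrCharacter H // Mem0 p M χ} =>
    (⟨H684.BlockTools.infl f hf χ.1, mem0_infl hM f hf χ.2⟩ : {χ : IrrCharacter G // Mem0 p M χ})) ?_
  intro a b hab
  exact Subtype.ext (H684.BlockTools.infl_injective f hf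
    (congrArg (fun z : {χ : IrrCharacter G // Mem0 p M χ} => z.1) hab))

/-- all the Sylow subgroups are cyclic if one is -/
theorem isCyclic_sylow {G : Type u} [Group G] [Finite G] (P Q : Sylow p G) (h : IsCyclic (P : Subgroup G)) :
    IsCyclic (Q : Subgroup G) := (Sylow.equiv Q P).isCyclic.2 h

/-- **R1**, strict form -/
theorem reduce_lt (hM : IsPModular p M)
    (hcyc : ∀ (G : Type u) [Group G] [Finite G], p ∣ Nat.card G → ∀ P : Sylow p G, IsCyclic (P : Subgroup G) →
      4 * (p - 1) ≤ x0 p M G ^ 2)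
    (hext : ∀ (G : Type u) [Group G] [Finite G] (K : Subgroup G) [K.Normal] (P : Sylow p G), ¬ IsCyclic (P : Subgroup G) →
      (∀ Q : Sylow p (G ⧸ K), IsCyclic (Q : Subgroup (G ⧸ K))) →
      ∃ χ : IrrCharacter G, Mem0 p M χ ∧ ∃ k ∈ K, (χ : G → ℂ) k ≠ (χ : G → ℂ) 1)
    (haff : ∀ (G : Type u) [Group G] [Finite G] (N : Subgroup G) [N.Normal],
      (∀ K : Subgroup G, K.Normal → K ≤ N → K = ⊥ ∨ K = N) → N ≠ ⊥ → (∀ x ∈ N, ∀ y ∈ N, x * y = y * x) → IsPGroup p N →
      centralizer (N : Set G) = N → ¬ p ∣ N.index → (∀ P : Sylow p G, ¬ IsCyclic (P : Subgroup G)) →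
      4 * (p - 1) < x0 p M G ^ 2)
    (hnon : ∀ (G : Type u) [Group G] [Finite G] (N : Subgroup G) [N.Normal],
      (∀ K : Subgroup G, K.Normal → K ≤ N → K = ⊥ ∨ K = N) → N ≠ ⊥ → (¬ ∀ x ∈ N, ∀ y ∈ N, x * y = y * x) →
      centralizer (N : Set G) = ⊥ → ¬ p ∣ N.index → p ∣ Nat.card N → (∀ P : Sylow p G, ¬ IsCyclic (P : Subgroup G)) →
      4 * (p - 1) < x0 p M G ^ 2)
    (G : Type u) [Group G] [Finite G] (hpG : p ∣ Nat.card G) (hP : ∀ P : Sylow p G, ¬ IsCyclic (P : Subgroup G)) :
    4 * (p - 1) < x0 p M G ^ 2 := by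
  obtain ⟨n, hn⟩ : ∃ n, Nat.card G = n := ⟨_, rfl⟩
  induction n using Nat.strong_induction_on generalizing G with
  | _ n ih =>
  subst hn
  -- a proper quotient of order divisible by `p`
  by_cases hq : ∃ K : Subgroup G, K.Normal ∧ K ≠ ⊥ ∧ p ∣ K.index
  · obtain ⟨K, hKn, hK, hKi⟩ := hq
    have h1 : Nat.card (G ⧸ K) < Nat.card G := by
      rw [← index_eq_card, ← K.card_mul_index]
      have h2 : 1 < Nat.card K := (one_lt_card_iff_ne_bot K).2 hK
      have h3 : 0 < K.index := Nat.pos_of_ne_zero K.index_ne_zero_of_finite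
      nlinarith
    have hKi' : p ∣ Nat.card (G ⧸ K) := by rw [← index_eq_card]; exact hKi
    have h3 : x0 p M (G ⧸ K) ≤ x0 p M G :=
      x0_le_of_surjective hM (QuotientGroup.mk' K) (QuotientGroup.mk'_surjective K)
    by_cases hc : ∀ Q : Sylow p (G ⧸ K), ¬ IsCyclic (Q : Subgroup (G ⧸ K))
    · have h2 := ih _ h1 (G ⧸ K) hKi' hc rfl
      exact h2.trans_le (Nat.pow_le_pow_left h3 2)
    · push Not at hc
      obtain ⟨Q, hQ⟩ := hc
      have hQ' : ∀ Q' : Sylow p (G ⧸ K), IsCyclic (Q' : Subgroup (G ⧸ K)) := fun Q' => isCyclic_sylow Q Q' hQ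
      have h2 := hcyc (G ⧸ K) hKi' Q hQ
      obtain ⟨P⟩ : Nonempty (Sylow p G) := inferInstance
      obtain ⟨χ, hχ, k, hk, hne⟩ := hext G K P (hP P) hQ'
      -- one more character
      have h4 : x0 p M (G ⧸ K) + 1 ≤ x0 p M G := by
        have := finite_mem0' (p := p) (M := M) (G := G)
        let f : Option {χ : IrrCharacter (G ⧸ K) // Mem0 p M χ} → {χ : IrrCharacter G // Mem0 p M χ} := fun x =>
          x.elim ⟨χ, hχ⟩ fun ψ => ⟨H684.BlockTools.infl (QuotientGroup.mk' K) (QuotientGroup.mk'_surjective K) ψ.1,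
            mem0_infl hM _ _ ψ.2⟩
        have hker : ∀ ψ : IrrCharacter (G ⧸ K),
            H684.BlockTools.infl (QuotientGroup.mk' K) (QuotientGroup.mk'_surjective K) ψ ≠ χ := by
          intro ψ hψ
          apply hne
          rw [← hψ]
          show (ψ : G ⧸ K → ℂ) (QuotientGroup.mk' K k) = (ψ : G ⧸ K → ℂ) (QuotientGroup.mk' K 1)
          rw [(QuotientGroup.mk'_apply K k).trans ((QuotientGroup.eq_one_iff k).2 hk), map_one]
        have hf : Function.Injective f := by
          rintro (_ | a) (_ | b) hab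
          · rfl
          · exact absurd (congrArg (fun z : {χ : IrrCharacter G // Mem0 p M χ} => z.1) hab).symm (hker b.1)
          · exact absurd (congrArg (fun z : {χ : IrrCharacter G // Mem0 p M χ} => z.1) hab) (hker a.1)
          · have h5 : a.1 = b.1 := H684.BlockTools.infl_injective _ (QuotientGroup.mk'_surjective K)
              (congrArg (fun z : {χ : IrrCharacter G // Mem0 p M χ} => z.1) hab)
            rw [Subtype.ext h5]
        have hfin : Finite {χ : IrrCharacter (G ⧸ K) // Mem0 p M χ} := finite_mem0'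
        have h6 := Nat.card_le_card_of_injective f hf
        rw [Finite.card_option] at h6
        exact h6
      have h5 : (x0 p M (G ⧸ K) + 1) ^ 2 ≤ x0 p M G ^ 2 := Nat.pow_le_pow_left h4 2
      have h6 : x0 p M (G ⧸ K) ^ 2 < (x0 p M (G ⧸ K) + 1) ^ 2 := Nat.pow_lt_pow_left (Nat.lt_succ_self _) (by norm_num)
      exact h2.trans_lt (h6.trans_le h5)
  push Not at hq
  have hnt : Nontrivial G := by
    rw [← Finite.one_lt_card_iff_nontrivial]
    exact hp.out.one_lt.trans_le (Nat.le_of_dvd Nat.card_pos hpG)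
  obtain ⟨N, hNn, hN, hmin⟩ := Lib.SubnormalJoin.exists_minimal_normal G
  have hcop : ¬ p ∣ N.index := hq N hNn hN
  have hdN : p ∣ Nat.card N := by
    rw [← N.card_mul_index] at hpG
    exact (hp.out.dvd_mul.1 hpG).resolve_right hcop
  have hall : ∀ K : Subgroup G, K.Normal → ¬ p ∣ Nat.card K → K = ⊥ := by
    intro K hK hKc
    by_contra h0
    have h1 := hq K hK h0
    rw [← K.card_mul_index] at hpG
    rcases hp.out.dvd_mul.1 hpG with h | h
    · exact hKc h
    · exact h1 h
  by_cases hab : ∀ x ∈ N, ∀ y ∈ N, x * y = y * x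
  · -- the elements of `p`-power order of `N` form a normal subgroup
    have hNp : IsPGroup p N := by
      set T : Subgroup G :=
        { carrier := {x | x ∈ N ∧ ∃ k : ℕ, x ^ p ^ k = 1}
          one_mem' := ⟨one_mem _, 0, by simp⟩
          mul_mem' := by
            rintro x y ⟨hx, k, hk⟩ ⟨hy, l, hl⟩
            refine ⟨mul_mem hx hy, k + l, ?_⟩
            have hc : Commute x y := hab x hx y hy
            rw [hc.mul_pow, pow_add, pow_mul, hk, one_pow, mul_comm, pow_mul, hl, one_pow, one_mul]
          inv_mem' := by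
            rintro x ⟨hx, k, hk⟩
            exact ⟨inv_mem hx, k, by rw [inv_pow, hk, inv_one]⟩ } with hT
      have hTn : T.Normal := by
        constructor
        rintro x ⟨hx, k, hk⟩ g
        exact ⟨hNn.conj_mem x hx g, k, by rw [conj_pow, hk, mul_one, mul_inv_cancel]⟩
      have hTN : T ≤ N := fun x hx => hx.1
      have hTb : T ≠ ⊥ := by
        obtain ⟨x, hx⟩ := exists_prime_orderOf_dvd_card' (G := N) p hdN
        intro hb
        have h1 : (x : G) ∈ T := ⟨x.2, 1, by
          rw [pow_one, ← hx, ← orderOf_coe]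
          exact pow_orderOf_eq_one _⟩
        rw [hb, mem_bot] at h1
        have h2 : x = 1 := Subtype.ext h1
        rw [h2, orderOf_one] at hx
        exact hp.out.ne_one hx.symm
      have hTe : T = N := (hmin T hTn hTN).resolve_left hTb
      intro x
      have hx : (x : G) ∈ T := by rw [hTe]; exact x.2
      obtain ⟨k, hk⟩ := hx.2
      exact ⟨k, Subtype.ext hk⟩
    exact haff G N hmin hN hab hNp (Cfsg.Agent.H774.KB.cent_eq N hNp hab hcop hall) hcop hP
  · have hdis : centralizer (N : Set G) ⊓ N = ⊥ := by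
      rcases hmin (centralizer (N : Set G) ⊓ N) inferInstance inf_le_right with h | h
      · exact h
      · exfalso
        apply hab
        intro x hx y hy
        have hy' : y ∈ centralizer (N : Set G) := by
          rw [← h] at hy
          exact hy.1
        exact mem_centralizer_iff.1 hy' x hx
    have hC : centralizer (N : Set G) = ⊥ := by
      by_contra h0
      have h1 := hq _ inferInstance h0
      apply h1
      refine hdN.trans ?_
      -- `N` embeds in `G / C`
      set f : N →* G ⧸ centralizer (N : Set G) := (QuotientGroup.mk' _).comp N.subtype with hf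
      have hinj : Function.Injective f := by
        rw [injective_iff_map_eq_one]
        intro x hx
        have h2 : (x : G) ∈ centralizer (N : Set G) := (QuotientGroup.eq_one_iff _).1 hx
        have h3 : (x : G) ∈ centralizer (N : Set G) ⊓ N := ⟨h2, x.2⟩
        rw [hdis, mem_bot] at h3
        exact Subtype.ext h3
      rw [index_eq_card]
      exact card_dvd_of_injective f hinj
    exact hnon G N hmin hN hab hC hcop hdN hP

end Cfsg.Agent.H668.XZ
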