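import Cfsg.Agent.H668.XZ.Case
import Cfsg.Agent.H191.KB.Final
import Cfsg.Agent.H627.BR.Over
import Cfsg.Agent.H611.CoverPrincipal

/-!
# S4791 + S4927, C layer: criteria (helper668)

* `twist l χ` : `χ` multiplied by the linear character `l`; `mem0_twist` : this stays in `X0` if `l` is trivial on the hull.
* `gallagher_le` : `A / hull` abelian: members of `X0(A)` with irreducible and pairwise different restrictions to `S`.
* `two_le_kap0`.
* `lt_of_cnt`, `le_of_cnt` : the final criterion.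
* `Row0` : the rows; `row0_of_ab`.
-/

set_option autoImplicit false

open Cfsg Subgroup Cfsg.Agent.H508.KB Cfsg.Agent.H674.XZ
open scoped ComplexConjugate

namespace Cfsg.Agent.H668.XZ

universe u

open Cfsg.Agent.Characters.Core
open Cfsg.Agent.Blocks.Local Cfsg.Agent.Blocks.Basic

variable {p : ℕ} [hp : Fact p.Prime] {M : Ideal AlgInt}

omit hp in
/-- a character with irreducible restriction to a subgroup -/
theorem irr_of_sub {A : Type u} [Group A] [Finite A] {S H : Subgroup A} (hSH : S ≤ H) {χ : A → ℂ}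
    (hc : IsCharacter H (fun x : H => χ x)) (hχ : IsIrrCharacter S (fun x : S => χ x)) :
    IsIrrCharacter H (fun x : H => χ x) := by
  classical
  have : Fintype H := Fintype.ofFinite _
  have : Fintype S := Fintype.ofFinite _
  have hfin : Finite (IrrCharacter H) := finite_irr
  have hfinS : Finite (IrrCharacter S) := finite_irr
  let : Fintype (IrrCharacter H) := Fintype.ofFinite _
  let : Fintype (IrrCharacter S) := Fintype.ofFinite _
  obtain ⟨b, hb⟩ := exists_nat_comb hc
  -- restrict to `S`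
  have hr : ∀ ζ : IrrCharacter H, IsCharacter S (fun x : S => (ζ : H → ℂ) ⟨x, hSH x.2⟩) := fun ζ =>
    isCharacter_comp (Subgroup.inclusion hSH) (isIrr_isCharacter ζ.2)
  have e1 : (fun x : S => χ x) = ∑ ζ : IrrCharacter H, (b ζ : ℂ) • (fun x : S => (ζ : H → ℂ) ⟨x, hSH x.2⟩) := by
    funext x
    have h1 := congrFun hb ⟨x, hSH x.2⟩
    simp only [Finset.sum_apply, Pi.smul_apply, nsmul_eq_mul, smul_eq_mul] at h1 ⊢
    exact h1
  -- the degree
  choose d hd0 hd using fun ζ : IrrCharacter H => isIrr_apply_one ζ.2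
  -- multiplicities of `χ|_S` in the restrictions
  choose m hm using fun ζ : IrrCharacter H => classInner_isNat (hr ζ) (isIrr_isCharacter hχ)
  have h2 : ((∑ ζ : IrrCharacter H, b ζ * m ζ : ℕ) : ℂ) = 1 := by
    rw [← classInner_irr_self hχ]
    conv_rhs => arg 1; rw [e1]
    rw [classInner_sum_left]
    push_cast
    refine Finset.sum_congr rfl fun ζ _ => ?_
    rw [classInner_smul_left, hm]
  have h3 : ∑ ζ : IrrCharacter H, b ζ * m ζ = 1 := by exact_mod_cast h2
  have h4 : ∃ ζ : IrrCharacter H, b ζ * m ζ ≠ 0 := by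
    by_contra hcon
    push Not at hcon
    rw [Finset.sum_eq_zero fun ζ _ => hcon ζ] at h3
    exact zero_ne_one h3
  obtain ⟨ζ, hζ⟩ := h4
  have hbζ : b ζ ≠ 0 := fun h => hζ (by rw [h, zero_mul])
  have hmζ : m ζ ≠ 0 := fun h => hζ (by rw [h, mul_zero])
  -- `χ(1) ≤ ζ(1)`
  have h5 : ∃ c : ℕ, χ 1 = c ∧ c ≤ d ζ := by
    have hne : classInner (fun x : S => (ζ : H → ℂ) ⟨x, hSH x.2⟩) (fun x : S => χ x) ≠ 0 := by
      rw [hm]
      exact Nat.cast_ne_zero.2 hmζ
    have h6 := OddOrderCharacters.Clifford.isCharacter_sub_irr (hr ζ) hχ hne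
    obtain ⟨c, -, hc1⟩ := isIrr_apply_one hχ
    obtain ⟨c', hc'⟩ := isCharacter_apply_one h6
    refine ⟨c, hc1, ?_⟩
    have h7 : ((ζ : H → ℂ) 1) - χ 1 = c' := hc'
    have hc1' : χ 1 = c := hc1
    rw [hd, hc1'] at h7
    have h8 : (d ζ : ℂ) = ((c + c' : ℕ) : ℂ) := by
      push_cast
      rw [← h7]
      ring
    have h9 : d ζ = c + c' := by exact_mod_cast h8
    omega
  obtain ⟨c, hc1, hc2⟩ := h5
  have h6 : c = ∑ η : IrrCharacter H, b η * d η := by
    have h7 := congrFun hb 1
    rw [Finset.sum_apply] at h7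
    have h8 : χ 1 = ∑ η : IrrCharacter H, (b η • (η : H → ℂ)) 1 := h7
    rw [hc1] at h8
    have h9 : (c : ℂ) = ((∑ η : IrrCharacter H, b η * d η : ℕ) : ℂ) := by
      rw [h8]
      push_cast
      refine Finset.sum_congr rfl fun η _ => ?_
      rw [Pi.smul_apply, hd, nsmul_eq_mul]
    exact_mod_cast h9
  have h7 : b ζ * d ζ + ∑ η ∈ Finset.univ.erase ζ, b η * d η = c := by
    rw [h6]
    exact Finset.add_sum_erase _ (fun η => b η * d η) (Finset.mem_univ ζ)
  have h8 : b ζ = 1 := by
    have hb1 : 1 ≤ b ζ := Nat.one_le_iff_ne_zero.2 hbζ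
    have hb2 : b ζ * d ζ ≤ 1 * d ζ := by
      rw [one_mul]
      exact ((Nat.le_add_right _ _).trans h7.le).trans hc2
    exact le_antisymm (Nat.le_of_mul_le_mul_right hb2 (hd0 ζ)) hb1
  have h9 : ∑ η ∈ Finset.univ.erase ζ, b η * d η = 0 := by
    rw [h8, one_mul] at h7
    omega
  have h10 : ∀ η : IrrCharacter H, η ≠ ζ → b η = 0 := by
    intro η hη
    have h11 := (Finset.sum_eq_zero_iff.1 h9) η (Finset.mem_erase.2 ⟨hη, Finset.mem_univ _⟩)
    rcases Nat.mul_eq_zero.1 h11 with h12 | h12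
    · exact h12
    · exact absurd h12 (hd0 η).ne'
  have h11 : (fun x : H => χ x) = (ζ : H → ℂ) := by
    rw [hb, Finset.sum_eq_single ζ (fun η _ hη => by rw [h10 η hη, zero_smul]) (fun h => absurd (Finset.mem_univ _) h),
      h8, one_smul]
  rw [h11]
  exact ζ.2

section twist

variable {A : Type u} [Group A] [Finite A]

/-- the product with a linear character -/
noncomputable def twist (l : A →* ℂˣ) (χ : IrrCharacter A) : IrrCharacter A :=
  ⟨fun g => (l g : ℂ) * (χ : A → ℂ) g,
    @OddOrderCharacters.AbelianTwist.isIrr_hom_mul A _ (Fintype.ofFinite A) l _ χ.2⟩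

omit hp in
theorem twist_apply (l : A →* ℂˣ) (χ : IrrCharacter A) (g : A) :
    (twist l χ : A → ℂ) g = (l g : ℂ) * (χ : A → ℂ) g := rfl

omit hp in
theorem charDegree_twist (l : A →* ℂˣ) (χ : IrrCharacter A) :
    charDegree (twist l χ : A → ℂ) = charDegree (χ : A → ℂ) := by
  unfold charDegree
  rw [twist_apply, map_one, Units.val_one, one_mul]

omit hp in
/-- exponents which are `1` modulo the index -/
theorem hom_pow {N : Subgroup A} [N.Normal] {l : A →* ℂˣ} (hl : ∀ x ∈ N, l x = 1) {k : ℕ} (hk : k ≡ 1 [MOD N.index])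
    (x : A) : (l (x ^ k) : ℂ) = (l x : ℂ) := by
  have hli : (l x : ℂ) ^ N.index = 1 := by
    rw [← Units.val_pow_eq_pow_val, ← map_pow, hl _ (Subgroup.pow_index_mem N x), Units.val_one]
  rw [map_pow, Units.val_pow_eq_pow_val]
  have h1 : IsOfFinOrder (l x : ℂ) :=
    isOfFinOrder_iff_pow_eq_one.2 ⟨N.index, Nat.pos_of_ne_zero N.index_ne_zero_of_finite, hli⟩
  have h2 : (l x : ℂ) ^ k = (l x : ℂ) ^ 1 :=
    h1.pow_eq_pow_iff_modEq.2 (hk.of_dvd (orderOf_dvd_of_pow_eq_one hli))
  rw [h2, pow_one]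

omit [Finite A] in
theorem index_dvd_mp {N : Subgroup A} (hcop : ¬ p ∣ N.index) : N.index ∣ mp p A := by
  have h1 := Nat.ordProj_mul_ordCompl_eq_self (Nat.card A) p
  have h2 : N.index ∣ p ^ (Nat.card A).factorization p * ordCompl[p] (Nat.card A) := by
    rw [h1]
    exact N.index_dvd_card
  refine Nat.Coprime.dvd_of_dvd_mul_left ?_ h2
  exact (Nat.Coprime.pow_left _ ((Nat.Prime.coprime_iff_not_dvd hp.out).2 hcop)).symm

/-- a linear character of a quotient of order prime to `p` -/
theorem alm_twist {N : Subgroup A} [N.Normal] (hcop : ¬ p ∣ N.index) {l : A →* ℂˣ} (hl : ∀ x ∈ N, l x = 1)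
    {χ : IrrCharacter A} (h : Alm p (χ : A → ℂ)) : Alm p (twist l χ : A → ℂ) := by
  rw [alm_iff_fun (irr_isCharacter (twist l χ).2)]
  intro u hu g
  rw [twist_apply, twist_apply, (alm_iff_fun (irr_isCharacter χ.2)).1 h u hu g,
    hom_pow hl (((mem_JJ u).1 hu).of_dvd ((index_dvd_mp hcop).trans (mp_dvd_dd p A)))]

variable (S : Subgroup A) [S.Normal]

theorem hull_normal (hcop : ¬ p ∣ S.index) : (hull p S).Normal := by
  obtain ⟨P⟩ : Nonempty (Sylow p S) := inferInstance
  exact (H96.KB.Hull.hull_eq S hcop P).2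

omit hp [Finite A] [S.Normal] in
theorem not_dvd_hull_index (hcop : ¬ p ∣ S.index) : ¬ p ∣ (hull p S).index := fun h =>
  hcop (h.trans (Subgroup.index_dvd_of_le le_sup_left))

/-- **Twists stay in `X0`.** -/
theorem mem0_twist (hM : IsPModular p M) (hcop : ¬ p ∣ S.index) {l : A →* ℂˣ} (hl : ∀ x ∈ hull p S, l x = 1)
    {χ : IrrCharacter A} (h : Mem0 p M χ) : Mem0 p M (twist l χ) := by
  classical
  have hn := hull_normal S hcop
  have : Fintype A := Fintype.ofFinite A
  have : Fintype (hull p S) := Fintype.ofFinite _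
  refine ⟨?_, by rw [charDegree_twist]; exact h.2.1, alm_twist (not_dvd_hull_index S hcop) hl h.2.2⟩
  obtain ⟨P⟩ : Nonempty (Sylow p A) := inferInstance
  have hP := H735.S4822.sylow_le S hcop P
  have hc : IsCharacter (hull p S) (fun x : hull p S => (χ : A → ℂ) x) :=
    isCharacter_comp (hull p S).subtype (isIrr_isCharacter χ.2)
  obtain ⟨θ, hθ, hne⟩ := exists_constituent hc (isIrr_apply_one_ne_zero χ.2)
  have hft : Fintype.ofFinite (hull p S) = (inferInstance : Fintype (hull p S)) := Subsingleton.elim _ _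
  rw [hft] at hne
  have h1 := H611.CoverPrincipal.mem_principalBlock_of_over p hM (hull p S) χ ⟨θ, hθ⟩ hne h.1
  refine H627.BR.mem_of_over hM P (hull p S) (H261.KB.Ker.centralizer_le S P hP) ⟨θ, hθ⟩ h1 _ ?_
    (by rw [charDegree_twist]; exact h.2.1)
  rw [H627.BR.ov_iff]
  have e : (fun x : hull p S => (twist l χ : A → ℂ) x) = fun x : hull p S => (χ : A → ℂ) x := by
    funext x
    rw [twist_apply, hl x x.2, Units.val_one, one_mul]
  rw [e]
  exact hne

omit hp in
/-- if the restriction to `N` is irreducible only the trivial linear character of the quotient fixes `χ` -/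
theorem eq_one_of_fix {N : Subgroup A} [N.Normal] (hab : ∀ a b : A, a * b * a⁻¹ * b⁻¹ ∈ N) {χ : IrrCharacter A}
    (hχ : IsIrrCharacter N (fun x : N => (χ : A → ℂ) x)) {l : A →* ℂˣ} (hl : ∀ x ∈ N, l x = 1)
    (h : ∀ g, (l g : ℂ) * (χ : A → ℂ) g = (χ : A → ℂ) g) : l = 1 := by
  classical
  have : Fintype A := Fintype.ofFinite A
  have : Fintype N := Fintype.ofFinite N
  obtain ⟨Λ, h1, -, h3, h4⟩ := CharactersDeep.AbelianQuotient.exists_linear_dual N hab
  have h5 := CharactersDeep.AbelianQuotient.classInner_restrict_self N χ.2 Λ h3 h4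
  rw [classInner_irr_self hχ] at h5
  have h6 : (Λ.filter (fun l => (fun g => (l g : ℂ)) * (χ : A → ℂ) = (χ : A → ℂ))).card = 1 := by exact_mod_cast h5.symm
  obtain ⟨m, hm⟩ := Finset.card_eq_one.1 h6
  have h7 : l ∈ Λ.filter (fun l => (fun g => (l g : ℂ)) * (χ : A → ℂ) = (χ : A → ℂ)) :=
    Finset.mem_filter.2 ⟨(h1 l).2 hl, funext h⟩
  have h8 : (1 : A →* ℂˣ) ∈ Λ.filter (fun l => (fun g => (l g : ℂ)) * (χ : A → ℂ) = (χ : A → ℂ)) := by
    refine Finset.mem_filter.2 ⟨(h1 1).2 fun n _ => rfl, ?_⟩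
    funext g
    rw [Pi.mul_apply, MonoidHom.one_apply, Units.val_one, one_mul]
  rw [hm, Finset.mem_singleton] at h7 h8
  rw [h7, h8]

/-- **Gallagher.** `A / hull` abelian; `χ i` members of `X0(A)` with irreducible and pairwise different restrictions to `S`;
`W` further members. -/
theorem gallagher_le (hM : IsPModular p M) (hcop : ¬ p ∣ S.index) (hab : ∀ a b : A, a * b * a⁻¹ * b⁻¹ ∈ hull p S)
    {ι : Type*} [Finite ι] (χ : ι → IrrCharacter A) (h0 : ∀ i, Mem0 p M (χ i))
    (hirr : ∀ i, IsIrrCharacter S (fun x : S => (χ i : A → ℂ) x))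
    (hne : ∀ i j, (∀ x ∈ S, (χ i : A → ℂ) x = (χ j : A → ℂ) x) → i = j) (W : Set (IrrCharacter A))
    (hW : ∀ ψ ∈ W, Mem0 p M ψ) (hWne : ∀ i, ∀ l : A →* ℂˣ, (∀ x ∈ hull p S, l x = 1) → twist l (χ i) ∉ W) :
    (hull p S).index * Nat.card ι + W.ncard ≤ x0 p M A := by
  classical
  have hn := hull_normal S hcop
  have hfin := finite_irr (G := A)
  have hSH : S ≤ hull p S := le_sup_left
  obtain ⟨Λ, h1, h2, -, -⟩ := CharactersDeep.AbelianQuotient.exists_linear_dual (hull p S) hab
  let f : (↥Λ × ι) ⊕ ↥W → {χ : IrrCharacter A // Mem0 p M χ} :=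
    Sum.elim (fun x => ⟨twist x.1.1 (χ x.2), mem0_twist S hM hcop ((h1 _).1 x.1.2) (h0 x.2)⟩) fun ψ => ⟨ψ.1, hW ψ.1 ψ.2⟩
  have hf : Function.Injective f := by
    rintro (⟨⟨l, hl⟩, i⟩ | ⟨ψ, hψ⟩) (⟨⟨m, hm⟩, j⟩ | ⟨φ, hφ⟩) h
    · have e1 : twist l (χ i) = twist m (χ j) := congrArg Subtype.val h
      have e2 : ∀ g, (l g : ℂ) * (χ i : A → ℂ) g = (m g : ℂ) * (χ j : A → ℂ) g := fun g =>
        congrFun (congrArg Subtype.val e1) g
      have hl' := (h1 l).1 hl
      have hm' := (h1 m).1 hm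
      have e3 : i = j := by
        refine hne i j fun x hx => ?_
        have e4 := e2 x
        rwa [hl' x (hSH hx), hm' x (hSH hx), Units.val_one, one_mul, one_mul] at e4
      subst e3
      have e5 : m⁻¹ * l = 1 := by
        refine eq_one_of_fix (N := hull p S) hab ?_ (fun x hx => ?_) (fun g => ?_) (χ := χ i)
        · -- the restriction to the hull is irreducible
          have : Fintype (hull p S) := Fintype.ofFinite _
          have : Fintype S := Fintype.ofFinite _
          have hc : IsCharacter (hull p S) (fun x : hull p S => (χ i : A → ℂ) x) :=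
            isCharacter_comp (hull p S).subtype (isIrr_isCharacter (χ i).2)
          exact irr_of_sub hSH hc (hirr i)
        · rw [MonoidHom.mul_apply, MonoidHom.inv_apply, hl' x hx, hm' x hx, inv_one, one_mul]
        · rw [MonoidHom.mul_apply, MonoidHom.inv_apply, Units.val_mul, mul_assoc, e2, ← mul_assoc, ← Units.val_mul,
            inv_mul_cancel, Units.val_one, one_mul]
      have e6 : l = m := by
        rw [← one_mul m, ← e5]
        ext g
        simp
      subst e6
      rfl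
    · exact absurd hφ (by
        have e1 : twist l (χ i) = φ := congrArg Subtype.val h
        rw [← e1]
        exact hWne i l ((h1 l).1 hl))
    · exact absurd hψ (by
        have e1 : ψ = twist m (χ j) := congrArg Subtype.val h
        rw [e1]
        exact hWne j m ((h1 m).1 hm))
    · have e1 : ψ = φ := congrArg Subtype.val h
      subst e1
      rfl
  have h3 := Nat.card_le_card_of_injective f hf
  rw [Nat.card_sum, Nat.card_prod, Nat.card_eq_fintype_card (α := ↥Λ), Fintype.card_coe, h2] at h3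
  exact h3

end twist

end Cfsg.Agent.H668.XZ
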