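import Cfsg.Agent.H443.XC.Defs
import Cfsg.Agent.H668.XZ.C3

/-!
# S4791 + S4927: many families (helper668)

* `prA_of_conj` : the automorphism of `S` induced by an element of `A ⊇ T ≃ S`, `p ∤ |A : T|`, has order prime to `p` modulo
  the inner ones;
* `le_kap0_of_fam` : `R` families give `R` fixed members of `X0(T)`;
* `row_of_fam` : `4 (p - 1) < R²` gives the row.
-/

set_option autoImplicit false

open Cfsg Subgroup
open Cfsg.Agent.H674.XZ Cfsg.Agent.H508.KB
open Cfsg.Agent.Characters.Core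
open Cfsg.Agent.Blocks.Local

namespace Cfsg.Agent.H668.XZ

universe u

variable {p : ℕ} [Fact p.Prime] {M : Ideal AlgInt}

/-- the automorphism of `S` induced by `a : A` -/
def autOf {S : Type u} [Group S] {A : Type u} [Group A] (T : Subgroup A) [T.Normal] (e : S ≃* ↥T) (a : A) : MulAut S :=
  (e.trans (MulAut.conjNormal a)).trans e.symm

theorem autOf_apply {S : Type u} [Group S] {A : Type u} [Group A] (T : Subgroup A) [T.Normal] (e : S ≃* ↥T) (a : A) (s : S) :
    autOf T e a s = e.symm (MulAut.conjNormal a (e s)) := rfl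

theorem autOf_pow {S : Type u} [Group S] {A : Type u} [Group A] (T : Subgroup A) [T.Normal] (e : S ≃* ↥T) (a : A) (k : ℕ) :
    autOf T e a ^ k = autOf T e (a ^ k) := by
  induction k with
  | zero =>
    ext s
    rw [pow_zero, pow_zero, autOf_apply, map_one, MulAut.one_apply, MulAut.one_apply, e.symm_apply_apply]
  | succ k ih =>
    ext s
    rw [pow_succ, ih, MulAut.mul_apply, autOf_apply, autOf_apply, autOf_apply, e.apply_symm_apply, pow_succ, map_mul,
      MulAut.mul_apply]

omit [Fact p.Prime] in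
theorem prA_of_conj {S : Type u} [Group S] {A : Type u} [Group A] (T : Subgroup A) [T.Normal] (e : S ≃* ↥T)
    (hcop : ¬ p ∣ T.index) (a : A) : H443.XC.PrA p (autOf T e a) := by
  refine ⟨T.index, hcop, e.symm ⟨a ^ T.index, T.pow_index_mem a⟩, ?_⟩
  rw [autOf_pow]
  ext s
  rw [autOf_apply, MulAut.conj_apply]
  apply e.injective
  rw [e.apply_symm_apply, map_mul, map_mul, map_inv, e.apply_symm_apply]
  rfl

/-- the row from a lower bound of `kap0` -/
theorem row0_of_le_kap0 (hM : IsPModular p M) {S : Type u} [Group S] [Finite S] {R : ℕ} (hR : 4 * (p - 1) < R ^ 2)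
    (h : ∀ (A : Type u) [Group A] [Finite A] (T : Subgroup A) [T.Normal], (S ≃* ↥T) →
      centralizer (T : Set A) = ⊥ → ¬ p ∣ T.index → R ≤ kap0 p M T) : Row0 p M S := by
  intro A _ _ T _ ⟨e⟩ h1 h2 t n ht ⟨g, h3, h4⟩
  have hp2 : 2 ≤ p := (Fact.out : p.Prime).two_le
  have h5 := h A T e h1 h2
  have h6 : 3 ≤ R := by
    by_contra hcon
    have : R ≤ 2 := by omega
    have : R ^ 2 ≤ 4 := by nlinarith
    omega
  have h7 := one_le_ker0 T hM
  have h8 := ker_add_kap_le0 T hM h2
  have h9 := H270.KB.choose_ge' (κ := kap0 p M T) (t := t) (by omega)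
  have h10 : 1 * (kap0 p M T - 1) ≤ t * (kap0 p M T - 1) := Nat.mul_le_mul_right _ ht
  have h11 : 1 ≤ g := by
    rcases Nat.eq_zero_or_pos g with h | h
    · rw [h, mul_zero] at h3
      omega
    · exact h
  have h12 : R ≤ n := by omega
  exact hR.trans_le (Nat.pow_le_pow_left h12 2)

/-- the members of `X0(T)` from the families -/
theorem le_kap0_of_fam {S : Type u} [Group S] [Finite S] {R : ℕ} (h : H443.XC.Fam p M S R) {A : Type u} [Group A] [Finite A]
    (T : Subgroup A) [T.Normal] (e : S ≃* ↥T) (hcop : ¬ p ∣ T.index) : R ≤ kap0 p M T := by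
  obtain ⟨ψ, c, h⟩ := h
  have h1 : ∀ i, ∃ χ : IrrCharacter S, Mem0 p M χ ∧ ip (ψ i) (χ : S → ℂ) ≠ 0 := fun i =>
    (h i).2.2.1.exists_mem0 (h i).2.2.2.1
  choose θ h2 h3 using h1
  have h4 : ∀ i, ∀ α : MulAut S, H443.XC.PrA p α → ∀ s, (θ i : S → ℂ) (α s) = (θ i : S → ℂ) s := fun i =>
    (h i).2.2.2.2.2 (θ i) (h2 i) (h3 i)
  let θ' : Fin R → {χ : IrrCharacter ↥T // Mem0 p M χ} := fun i =>
    ⟨⟨fun g => (θ i : S → ℂ) (e.symm g), isIrr_comp e.symm.toMonoidHom e.symm.surjective (θ i).2⟩, mem0_comp e.symm (h2 i)⟩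
  have hfin : Finite {χ : IrrCharacter ↥T // Mem0 p M χ} := finite_mem0
  have hinj : Function.Injective fun i : Fin R => (Quotient.mk (orbSetoid0 p M T) (θ' i)) := by
    intro i j hij
    obtain ⟨a, ha⟩ := Quotient.exact hij
    by_contra hne
    have h5 : θ i = θ j := by
      apply Subtype.ext
      funext s
      have h6 := ha (e s)
      change (θ j : S → ℂ) (e.symm (e s)) = (θ i : S → ℂ) (e.symm (MulAut.conjNormal a (e s))) at h6
      rw [e.symm_apply_apply] at h6
      rw [h6]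
      exact (h4 i (autOf T e a) (prA_of_conj T e hcop a) s).symm
    rcases disj_of_orth (h i).1 (h j).1 ((h i).2.2.2.2.1 j hne) (θ i) with h6 | h6
    · exact h3 i h6
    · exact h3 j (h5 ▸ h6)
  have h5 := Nat.card_le_card_of_injective _ hinj
  rwa [Nat.card_eq_fintype_card, Fintype.card_fin] at h5

/-- **K6**: many families -/
theorem row_of_fam {S : Type u} [Group S] [Finite S] (hM : IsPModular p M) {R : ℕ} (h : H443.XC.Fam p M S R)
    (hR : 4 * (p - 1) < R ^ 2) : Row0 p M S :=
  row0_of_le_kap0 hM hR fun _ _ _ T _ e _ hcop => le_kap0_of_fam h T e hcop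

end Cfsg.Agent.H668.XZ
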