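import Cfsg.Agent.H668.XZ.Prod
import Cfsg.Agent.H742.S4822.OneLe
import Cfsg.Agent.H246.KB.Ind
import Cfsg.Agent.H590.KB.Under
import Cfsg.Agent.H686.CharKit
import Cfsg.Agent.H678.Constit

/-!
# S4791 + S4927, T1b and T1c (helper668)

Ports of `H742.S4822.OneLe` and `H590.KB.Under` with `Mem0` in place of the principal block.
-/

set_option autoImplicit false

open Cfsg Subgroup Cfsg.Agent.H508.KB Cfsg.Agent.H674.XZ
open Cfsg.Agent.Lib.MinNormalNonabelian Cfsg.Agent.H531.LemX
open Cfsg.Agent.H978.Alm.Nonab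
open scoped ComplexConjugate

namespace Cfsg.Agent.H668.XZ

universe u v

open Cfsg.Agent.Characters.Core
open Cfsg.Agent.Blocks.Local Cfsg.Agent.Blocks.Basic

variable {p : ℕ} [hp : Fact p.Prime] {M : Ideal AlgInt}

omit hp in
/-- inflation -/
theorem alm_comp {X Y : Type*} (f : X → Y) {χ : Y → ℂ} (h : Alm p χ) : Alm p (fun x => χ (f x)) := by
  obtain ⟨n, h1, h2, h3⟩ := h
  exact ⟨n, h1, h2, fun g => h3 (f g)⟩

/-- induced characters -/
theorem alm_ind {G : Type u} [Group G] [Fintype G] (U : Subgroup G) {ψ : U → ℂ} (hψ : IsCharacter U ψ) (h : Alm p ψ)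
    (hc : IsCharacter G (indFun U ψ)) : Alm p (indFun U ψ) := by
  classical
  rw [alm_iff_fun hc]
  intro u hu g
  rw [indFun_apply, indFun_apply]
  congr 1
  refine Finset.sum_congr rfl fun x _ => ?_
  have h1 : x⁻¹ * g ^ ex u * x = (x⁻¹ * g * x) ^ ex u := by
    have := conj_pow (a := x⁻¹) (b := g) (i := ex u)
    rw [inv_inv] at this
    exact this.symm
  rw [h1]
  by_cases hm : x⁻¹ * g * x ∈ U
  · rw [extendByZero_of_mem U ψ hm, extendByZero_of_mem U ψ (pow_mem hm _)]
    exact pow_eq_of_alm U hψ h hu ⟨_, hm⟩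
  · rw [extendByZero_of_notMem U ψ hm, extendByZero_of_notMem]
    intro h2
    apply hm
    obtain ⟨j, hj⟩ := exists_pow_eq_self_of_coprime (x := x⁻¹ * g * x) (n := ex u)
      (Nat.Coprime.coprime_dvd_right (orderOf_dvd_natCard _) (ex_coprime u))
    rw [← hj]
    exact pow_mem h2 j

section main

variable {G : Type u} [Group G] [Finite G] {N : Subgroup G} [N.Normal] {T : minSet N} {A : Type u} [Group A] [Finite A]
  {π : ↥(normalizer (T.1 : Set G)) →* A}

omit [Finite A] in
/-- a character over the trivial character of `N` -/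
theorem mem0_of_nt_zero (hM : IsPModular p M) (D : Dat N T π) (hcop : ¬ p ∣ N.index) {χ : IrrCharacter G}
    (hχ : χ ∈ principalBlock M G) (h0 : NT N χ 0) : Mem0 p M χ := by
  classical
  have : M.IsPrime := isPrime_of_isPModular hM
  obtain ⟨θ, ho, hc⟩ := h0
  refine mem0_of_over N hcop χ hχ θ ho ?_
  have hE : IsEmpty {V : minSet N // ∃ n : N, (n : G) ∈ V.1 ∧ (θ : N → ℂ) n ≠ (θ : N → ℂ) 1} := by
    rcases Nat.card_eq_zero.1 hc with h | h
    · exact h
    · exact absurd (Subtype.finite) (not_finite_iff_infinite.2 h)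
  -- the kernel of `θ`
  have hker : ∀ n : N, (θ : N → ℂ) n = (θ : N → ℂ) 1 := by
    have h1 : N ≤ (H686.CharKit.chKer θ).map N.subtype := by
      nth_rewrite 1 [← D.str.gen]
      refine sSup_le fun V hV => ?_
      intro v hv
      have hvN : v ∈ N := hV.1 hv
      refine ⟨⟨v, hvN⟩, ?_, rfl⟩
      by_contra hne
      exact hE.false ⟨⟨V, hV⟩, ⟨v, hvN⟩, hv, hne⟩
    intro n
    obtain ⟨m, hm, hmn⟩ := h1 n.2
    have h2 : m = n := Subtype.ext hmn
    rw [← h2]
    exact hm
  have h1 : (θ : N → ℂ) = fun _ => 1 := by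
    have : Fintype N := Fintype.ofFinite N
    by_contra hne
    have h2 := classInner_irr_ne θ.2 (isIrrCharacter_one (G := N)) hne
    have h3 : (θ : N → ℂ) = (θ : N → ℂ) 1 • (fun _ => (1 : ℂ)) := by
      funext n
      rw [Pi.smul_apply, smul_eq_mul, mul_one, hker]
    rw [h3, classInner_smul_left, classInner_irr_self isIrrCharacter_one, mul_one] at h2
    exact isIrr_apply_one_ne_zero θ.2 h2
  have h2 : θ = ⟨fun _ => 1, isIrrCharacter_one⟩ := Subtype.ext h1
  rw [h2]
  exact mem0_one N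

/-- T1c -/
theorem ker_le_mul0 (hM : IsPModular p M) (D : Dat N T π) [(Im π).Normal] (hcop : ¬ p ∣ N.index)
    (hdN : p ∣ Nat.card N) :
    ker M (Im π) ≤ Nat.card (minSet N) * Nat.card {χ : IrrCharacter G // Mem0 p M χ ∧ NT N χ 0} := by
  have hfin := finite_irr (G := G)
  refine (Cfsg.Agent.H590.KB.ker_le_mul hM D hcop hdN).trans (Nat.mul_le_mul_left _ ?_)
  refine Nat.card_le_card_of_injective (fun χ => ⟨χ.1, mem0_of_nt_zero hM D hcop χ.2.1 χ.2.2, χ.2.2⟩) ?_
  intro a b hab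
  have h1 : a.1 = b.1 := congrArg (fun z : {χ : IrrCharacter G // Mem0 p M χ ∧ NT N χ 0} => z.1) hab
  exact Subtype.ext h1

/-- T1b -/
theorem card_one_le0 (hM : IsPModular p M) (D : Dat N T π) [(Im π).Normal] (hcop : ¬ p ∣ N.index)
    (hdN : p ∣ Nat.card N) :
    x0 p M A ≤ Nat.card {χ : IrrCharacter G // Mem0 p M χ ∧ NT N χ 1} + ker M (Im π) := by
  classical
  have hfinA : Finite (IrrCharacter A) := finite_irr
  have hfinG : Finite (IrrCharacter G) := finite_irr
  have P : Sylow p G := default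
  obtain ⟨hP, hC⟩ := Cfsg.Agent.H61.S4822.centralizer_le_normalizer D hcop hdN P
  -- the characters without `Im π` in the kernel
  have key : ∀ x : {ψ : IrrCharacter A // Mem0 p M ψ ∧ ¬ ∀ s ∈ Im π, (ψ : A → ℂ) s = (ψ : A → ℂ) 1},
      ∃ χ : {χ : IrrCharacter G // Mem0 p M χ ∧ NT N χ 1},
        (χ.1 : G → ℂ) = @indFun G _ (Fintype.ofFinite G) (normalizer (T.1 : Set G)) (fun u => (x.1 : A → ℂ) (π u)) := by
    rintro ⟨ψ, hψ, hk⟩
    obtain ⟨χ, hχ, he⟩ := Cfsg.Agent.H246.KB.Ind.exists_ind D ψ hk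
    have hB : χ ∈ principalBlock M G :=
      Cfsg.Agent.H531.KB.mem_of_induced hM P _ hP hC (H684.BlockTools.infl π D.surj ψ)
        (H684.BlockTools.infl_mem hM π D.surj hψ.1) χ he
    let _ : Fintype G := Fintype.ofFinite G
    have hcψ : IsCharacter ↥(normalizer (T.1 : Set G)) (fun u => (ψ : A → ℂ) (π u)) :=
      isCharacter_comp π (isIrr_isCharacter ψ.2)
    refine ⟨⟨χ, ⟨hB, ?_, ?_⟩, hχ⟩, he⟩
    · -- the degree
      have h1 : (χ : G → ℂ) 1 = (normalizer (T.1 : Set G)).index * (ψ : A → ℂ) 1 := by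
        rw [he, H678.Constit.indFun_one, map_one]
      have h2 : charDegree (χ : G → ℂ) = (normalizer (T.1 : Set G)).index * charDegree (ψ : A → ℂ) := by
        have h3 : ((charDegree (χ : G → ℂ) : ℕ) : ℂ) =
            (((normalizer (T.1 : Set G)).index * charDegree (ψ : A → ℂ) : ℕ) : ℂ) := by
          rw [← irr_one_eq_charDegree χ.2, h1, irr_one_eq_charDegree ψ.2, Nat.cast_mul]
        exact_mod_cast h3
      rw [h2]
      intro h
      rcases (Nat.Prime.dvd_mul hp.out).1 h with h | h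
      · exact hcop (h.trans (index_dvd_of_le le_norm))
      · exact hψ.2.1 h
    · have h1 : IsCharacter G (indFun (normalizer (T.1 : Set G)) (fun u => (ψ : A → ℂ) (π u))) := by
        have := isIrr_isCharacter χ.2
        rwa [he] at this
      have h2 := alm_ind (p := p) (normalizer (T.1 : Set G)) hcψ (alm_comp π hψ.2.2) h1
      rw [he]
      exact h2
  choose f hf using key
  have hinj : Function.Injective f := by
    intro x y hxy
    apply Subtype.ext
    apply Cfsg.Agent.H246.KB.Ind.ind_inj D x.1 y.1 x.2.2 y.2.2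
    rw [← hf x, ← hf y, hxy]
  have hle := Nat.card_le_card_of_injective f hinj
  have hsum : x0 p M A ≤ Nat.card {ψ : IrrCharacter A // Mem0 p M ψ ∧
      ¬ ∀ s ∈ Im π, (ψ : A → ℂ) s = (ψ : A → ℂ) 1} + ker M (Im π) := by
    unfold x0 ker
    have e := Set.ncard_inter_add_ncard_sdiff_eq_ncard {χ : IrrCharacter A | Mem0 p M χ}
      {ψ : IrrCharacter A | ∀ s ∈ Im π, (ψ : A → ℂ) s = (ψ : A → ℂ) 1} (Set.toFinite _)
    have e1 : Nat.card {χ : IrrCharacter A // Mem0 p M χ} = {χ : IrrCharacter A | Mem0 p M χ}.ncard := rfl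
    rw [e1, ← e, add_comm]
    refine Nat.add_le_add (le_of_eq rfl) ?_
    refine Set.ncard_le_ncard (fun χ hχ => ⟨hχ.1.1, hχ.2⟩) (Set.toFinite _)
  exact hsum.trans (Nat.add_le_add_right hle _)

end main

end Cfsg.Agent.H668.XZ
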