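import Cfsg.Agent.H668.XZ.Two10
import Cfsg.Agent.H26.XZ.Gal

/-!
# S4791 + S4927, K10: families and forms (helper668)

* `row0_of_two_forms` : `R ≥ e + 1` disjoint families (constituents of the class functions `ψ i`, invariant under the power
  maps and under the automorphisms), fixed by a subgroup `Γ` of index at most two in `Aut(S)`, and the invariant forms of degree
  `p - 1 - e`;
* `row0_of_stable` : `R` stable disjoint families with `4 (p - 1) < R²`.
-/

set_option autoImplicit false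
set_option linter.unusedSectionVars false

open Cfsg Subgroup
open Cfsg.Agent.H674.XZ Cfsg.Agent.H508.KB Cfsg.Agent.H603.AP Cfsg.Agent.H26.XZ
open Cfsg.Agent.Characters.Core
open Cfsg.Agent.Blocks.Local
open scoped ComplexConjugate

namespace Cfsg.Agent.H668.XZ

universe u

variable {p : ℕ} [Fact p.Prime] {M : Ideal AlgInt} {S : Type u} [Group S] [Finite S]

/-- multiplicities and automorphisms -/
theorem ip_aut {ψ : S → ℂ} {α : MulAut S} (h : ∀ s, ψ (α s) = ψ s) {θ θ' : S → ℂ} (hθ : ∀ s, θ' s = θ (α s)) :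
    ip ψ θ' = ip ψ θ := by
  have := Fintype.ofFinite S
  rw [ip_eq, ip_eq, classInner_def, classInner_def]
  congr 1
  refine Fintype.sum_equiv α.toEquiv _ _ fun s => ?_
  change ψ s * conj (θ' s) = ψ (α s) * conj (θ (α s))
  rw [h, hθ]

/-- the members of the families give different orbits -/
theorem le_kap0_of_stable (hM : IsPModular p M) {R : ℕ} (ψ : Fin R → S → ℂ)
    (hdis : ∀ i j, i ≠ j → ∀ χ : IrrCharacter S, ip (ψ i) (χ : S → ℂ) = 0 ∨ ip (ψ j) (χ : S → ℂ) = 0)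
    (hmem : ∀ i, ∃ θ : IrrCharacter S, Mem0 p M θ ∧ ip (ψ i) (θ : S → ℂ) ≠ 0)
    (haut : ∀ i, ∀ α : MulAut S, H443.XC.PrA p α → ∀ s, ψ i (α s) = ψ i s)
    {A : Type u} [Group A] [Finite A] (T : Subgroup A) [T.Normal] (e : S ≃* ↥T) (hcop : ¬ p ∣ T.index) :
    R ≤ kap0 p M T := by
  choose θ h1 h2 using hmem
  have hfin : Finite (IrrCharacter ↥T) := finite_irr
  have hfq := finite_quot0 (p := p) (M := M) T
  have hinj : Function.Injective fun i : Fin R => qq (M := M) T e ⟨θ i, h1 i⟩ := by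
    intro i j hij
    obtain ⟨a, ha⟩ := qq_eq T e hij
    by_contra hne
    have h3 := ip_aut (haut i _ (prA_of_conj T e hcop a)) ha
    rcases hdis i j hne (θ j) with h4 | h4
    · exact h2 i (h3.trans h4)
    · exact h2 j h4
  have h3 := Nat.card_le_card_of_injective _ hinj
  rwa [Nat.card_eq_fintype_card, Fintype.card_fin] at h3

/-- many stable families -/
theorem row0_of_stable (hM : IsPModular p M) {R : ℕ} (hR : 4 * (p - 1) < R ^ 2) (ψ : Fin R → S → ℂ)
    (hdis : ∀ i j, i ≠ j → ∀ χ : IrrCharacter S, ip (ψ i) (χ : S → ℂ) = 0 ∨ ip (ψ j) (χ : S → ℂ) = 0)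
    (hmem : ∀ i, ∃ θ : IrrCharacter S, Mem0 p M θ ∧ ip (ψ i) (θ : S → ℂ) ≠ 0)
    (haut : ∀ i, ∀ α : MulAut S, H443.XC.PrA p α → ∀ s, ψ i (α s) = ψ i s) : Row0 p M S :=
  row0_of_le_kap0 hM hR fun _ _ _ T _ e _ hcop => le_kap0_of_stable hM ψ hdis hmem haut T e hcop

/-- **K10, families and forms.** -/
theorem row0_of_two_forms (hM : IsPModular p M) (hpS : p ∣ Nat.card S) (hab : AbOut p S)
    {e c R : ℕ} (hec : e * c = p - 1) (he : 3 ≤ e) (hR : e + 1 ≤ R) (h44 : e = 4 → c = 4 → 6 ≤ R)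
    (Γ : Subgroup (MulAut S)) (hΓ : Γ.index ≤ 2) (ψ : Fin R → S → ℂ)
    (hst : ∀ i (u : (ZMod (Nat.card S))ˣ) (g : S), ψ i (g ^ ex u) = ψ i g)
    (hdis : ∀ i j, i ≠ j → ∀ χ : IrrCharacter S, ip (ψ i) (χ : S → ℂ) = 0 ∨ ip (ψ j) (χ : S → ℂ) = 0)
    (hmem : ∀ i, ∃ θ : IrrCharacter S, Mem0 p M θ ∧ ip (ψ i) (θ : S → ℂ) ≠ 0)
    (haut : ∀ i, ∀ α : MulAut S, H443.XC.PrA p α → ∀ s, ψ i (α s) = ψ i s)
    (hfix : ∀ i, ∀ θ : IrrCharacter S, Mem0 p M θ → ip (ψ i) (θ : S → ℂ) ≠ 0 → ∀ α ∈ Γ, H443.XC.PrA p α →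
      ∀ s, (θ : S → ℂ) (α s) = (θ : S → ℂ) s)
    (hforms : c ≤ 1 ∨ ∃ (P : Sylow p S) (_ : ∀ x ∈ P, ∀ y ∈ P, x * y = y * x) (f : Fin ((c + 1) / 2) → LL p P → ZMod p),
      LinearIndependent (ZMod p) f ∧ (∀ i, f i ∈ Pol p P (p - 1 - e)) ∧ ∀ i, WInv P (f i)) : Row0 p M S := by
  have hfin : Finite (IrrCharacter S) := finite_irr
  have hc : 1 ≤ c := by
    rcases Nat.eq_zero_or_pos c with rfl | h
    · have := (Fact.out : p.Prime).two_le
      omega
    · exact h
  -- the families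
  let X : Fin R → Set (IrrCharacter S) := fun i => {θ | ip (ψ i) (θ : S → ℂ) ≠ 0}
  have hX : ∀ i j, i ≠ j → Disjoint (X i) (X j) := by
    intro i j hij
    rw [Set.disjoint_left]
    intro χ h1 h2
    rcases hdis i j hij χ with h3 | h3
    · exact h1 h3
    · exact h2 h3
  have hXgal : ∀ i (u : (ZMod (Nat.card S))ˣ) (χ : IrrCharacter S), χ ∈ X i → pw u χ ∈ X i := by
    intro i u χ h1
    show ip (ψ i) (pw u χ : S → ℂ) ≠ 0
    rw [ip_pw u (hst i u) χ]
    exact h1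
  -- the orbits
  obtain ⟨O, hO0, hOd, hOc, hOX⟩ : ∃ O : Fin ((c + 1) / 2) → Set (IrrCharacter S), (∀ j, ∀ θ ∈ O j, Mem0 p M θ) ∧
      (∀ i j, i ≠ j → Disjoint (O i) (O j)) ∧ (∀ j, c ≤ (O j).ncard) ∧
      ∀ j, (∃ i, O j ⊆ X i) ∨ ∀ i, Disjoint (O j) (X i) := by
    rcases Nat.lt_or_ge c 2 with hc2 | hc2
    · have hc1 : c = 1 := by omega
      subst hc1
      have hR0 : 0 < R := by omega
      obtain ⟨θ, h1, h2⟩ := hmem ⟨0, hR0⟩
      refine ⟨fun _ => {θ}, ?_, ?_, ?_, ?_⟩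
      · rintro j χ rfl
        exact h1
      · intro i j hij
        exact absurd (Subsingleton.elim (α := Fin 1) i j) hij
      · intro j
        rw [Set.ncard_singleton]
      · intro j
        exact Or.inl ⟨⟨0, hR0⟩, Set.singleton_subset_iff.2 h2⟩
    · rcases hforms with h | ⟨P, hcomm, f, h1, h2, h3⟩
      · omega
      have h5 : e + e ≤ p - 1 := by
        rw [← hec]
        calc e + e = e * 2 := by ring
          _ ≤ e * c := Nat.mul_le_mul_left _ hc2
      have hg : Nat.gcd (p - 1 - e) (p - 1) = e := by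
        have h6 : p - 1 - e = e * (c - 1) := by
          rw [Nat.mul_sub, hec, mul_one]
        rw [h6, ← hec, Nat.gcd_mul_left]
        have h7 : Nat.gcd (c - 1) c = 1 := by
          have h8 : Nat.Coprime (c - 1) (c - 1 + 1) := by simp
          rwa [Nat.sub_add_cancel hc] at h8
        rw [h7, mul_one]
      obtain ⟨χ, h6, h7, h8⟩ := gal_main hM hpS hcomm (D := p - 1 - e) (by omega) (by omega) h1 h2 h3
      rw [hg, ← hec, Nat.mul_div_cancel_left _ (by omega)] at h8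
      refine ⟨fun j => oK p (χ j), fun j θ hθ => mem0_of_mem (h6 j).1 hθ, ?_, ?_, ?_⟩
      · intro i j hij
        rw [Set.disjoint_left]
        intro θ h9 h10
        have h11 : χ j ∈ oK p (χ i) := by
          rw [← oK_eq_of_mem h9, oK_eq_of_mem h10]
          exact self_mem_oK _
        obtain ⟨u, -, hu⟩ := h11
        exact h7 i j hij u hu
      · intro j
        rw [← Nat.card_coe_set_eq]
        exact h8 j
      · intro j
        by_cases hex : ∃ i, χ j ∈ X i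
        · obtain ⟨i, hi⟩ := hex
          refine Or.inl ⟨i, ?_⟩
          rintro _ ⟨u, -, rfl⟩
          exact hXgal i u _ hi
        · push Not at hex
          refine Or.inr fun i => ?_
          rw [Set.disjoint_left]
          rintro _ ⟨u, -, rfl⟩ h9
          apply hex i
          have h10 := hXgal i u⁻¹ _ h9
          rwa [pw_inv_pw] at h10
  refine row0_of_two hM hab hec he hR h44 Γ hΓ X hX (fun i => ?_) (fun i θ hθ hθ0 θ' α hα h => ?_) (fun i θ hθ hθ0 => hfix i θ hθ0 hθ)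
    O hO0 hOd hOc hOX
  · obtain ⟨θ, h1, h2⟩ := hmem i
    exact ⟨θ, h2, h1⟩
  · show ip (ψ i) (θ' : S → ℂ) ≠ 0
    rw [ip_aut (haut i α hα) h]
    exact hθ

end Cfsg.Agent.H668.XZ
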