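import Cfsg.Agent.H668.XZ.Two10
import Cfsg.Agent.H26.XZ.KThree

/-!
# S4791 + S4927, K10: stable families (sets) and helper324's forms (helper668)
-/

set_option autoImplicit false
set_option linter.unusedSectionVars false

open Cfsg Subgroup
open Cfsg.Agent.H674.XZ Cfsg.Agent.H508.KB
open Cfsg.Agent.Characters.Core

namespace Cfsg.Agent.H668.XZ

universe u

variable {p : ℕ} [Fact p.Prime] {M : Ideal AlgInt} {S : Type u} [Group S] [Finite S]

/-- **K10**: `R ≥ e + 1` stable disjoint families, given by integer valued generalized characters, with members fixed by a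
subgroup `Γ` of index at most two, and the forms. -/
theorem row0_of_two_frm (hM : IsPModular p M) (hpS : p ∣ Nat.card S) (hab : AbOut p S)
    {e c R : ℕ} (hec : e * c = p - 1) (he : 3 ≤ e) (hR : e + 1 ≤ R) (h44 : e = 4 → c = 4 → 6 ≤ R)
    (Γ : Subgroup (MulAut S)) (hΓ : Γ.index ≤ 2) (X : Fin R → Set (IrrCharacter S))
    (hX : ∀ i j, i ≠ j → Disjoint (X i) (X j)) (hne : ∀ i, ∃ θ ∈ X i, Mem0 p M θ)
    (hst : ∀ i, ∀ θ ∈ X i, Mem0 p M θ → ∀ θ' : IrrCharacter S, ∀ α : MulAut S, H443.XC.PrA p α →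
      (∀ s, (θ' : S → ℂ) s = (θ : S → ℂ) (α s)) → θ' ∈ X i)
    (hfix : ∀ i, ∀ θ ∈ X i, Mem0 p M θ → ∀ α ∈ Γ, H443.XC.PrA p α → ∀ s, (θ : S → ℂ) (α s) = (θ : S → ℂ) s)
    (hint : ∀ i, ∀ θ ∈ X i, ∃ ψ : S → ℂ, IsGeneralizedCharacter S ψ ∧ (∀ s, ∃ z : ℤ, ψ s = z) ∧
      ip ψ (θ : S → ℂ) ≠ 0 ∧ ∀ θ' : IrrCharacter S, ip ψ (θ' : S → ℂ) ≠ 0 → θ' ∈ X i)
    (hF : H324.AP.FrmG p S e) : Row0 p M S := by
  have hp2 := (Fact.out : p.Prime).two_le
  have hc : 1 ≤ c := by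
    rcases Nat.eq_zero_or_pos c with rfl | h
    · omega
    · exact h
  obtain ⟨O, hO0, hOd, hOc, hOX⟩ : ∃ O : Fin ((c + 1) / 2) → Set (IrrCharacter S), (∀ j, ∀ θ ∈ O j, Mem0 p M θ) ∧
      (∀ i j, i ≠ j → Disjoint (O i) (O j)) ∧ (∀ j, c ≤ (O j).ncard) ∧
      ∀ j, (∃ i, O j ⊆ X i) ∨ ∀ i, Disjoint (O j) (X i) := by
    rcases Nat.lt_or_ge c 2 with hc2 | hc2
    · have hc1 : c = 1 := by omega
      subst hc1
      have hR0 : 0 < R := by omega
      obtain ⟨θ, h1, h2⟩ := hne ⟨0, hR0⟩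
      refine ⟨fun _ => {θ}, ?_, ?_, ?_, ?_⟩
      · rintro j χ rfl
        exact h2
      · intro i j hij
        exact absurd (Subsingleton.elim (α := Fin 1) i j) hij
      · intro j
        rw [Set.ncard_singleton]
      · intro j
        exact Or.inl ⟨⟨0, hR0⟩, Set.singleton_subset_iff.2 h1⟩
    · obtain ⟨O, h1, h2, h3, h4⟩ := H26.XZ.exists_orb hM hec (by omega) hc2 hF hpS
      refine ⟨O, h1, h2, h3, fun j => ?_⟩
      by_cases hex : ∃ i, ∃ χ ∈ O j, χ ∈ X i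
      · obtain ⟨i, χ, h5, h6⟩ := hex
        obtain ⟨ψ, h7, h8, h9, h10⟩ := hint i χ h6
        rcases h4 ψ h7 h8 j with h11 | h11
        · exact Or.inl ⟨i, fun χ' hχ' => h10 χ' (h11 χ' hχ')⟩
        · exact absurd (h11 χ h5) h9
      · push Not at hex
        refine Or.inr fun i => ?_
        rw [Set.disjoint_left]
        intro χ h5 h6
        exact hex i χ h5 h6
  exact row0_of_two hM hab hec he hR h44 Γ hΓ X hX hne hst hfix O hO0 hOd hOc hOX

end Cfsg.Agent.H668.XZ
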