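import Cfsg.Agent.H674.XZ.Gal
import Cfsg.Agent.H508.KB.Defs
import Cfsg.Agent.CharactersDeep.AbelianQuotient
import Cfsg.Agent.OddOrderCharacters.AbelianTwist
import Cfsg.Agent.Characters.Clifford
import Cfsg.Agent.H596.Degree

/-!
# S4791 + S4927, T layer: from a normal subgroup of index prime to `p` (helper668)

* `exists_twist` : two irreducible characters with a common constituent on a normal subgroup with abelian quotient differ
  by a linear character of the quotient.
* `alm_of_over` : a character over an almost `p`-rational character of a normal subgroup of index prime to `p` is almost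
  `p`-rational.
* `mem0_of_over`, `mem0_iff_of_over`.
-/

set_option autoImplicit false

open scoped ComplexConjugate

namespace Cfsg.Agent.H668.XZ

open Cfsg Cfsg.Agent.Characters Cfsg.Agent.Characters.Core Cfsg.Agent.H674.XZ Cfsg.Agent.H508.KB

universe u v

/-- Two irreducible characters with a common constituent on a normal subgroup with abelian quotient differ by a linear
character of the quotient. -/
theorem exists_twist {H : Type u} [Group H] [Fintype H] (N : Subgroup H) [hN : N.Normal] [Fintype N]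
    (hab : ∀ x y : H, x * y * x⁻¹ * y⁻¹ ∈ N) {ψ ψ' : H → ℂ} (hψ : IsIrrCharacter H ψ) (hψ' : IsIrrCharacter H ψ')
    (h : classInner (fun n : N => ψ n) (fun n : N => ψ' n) ≠ 0) :
    ∃ l : H →* ℂˣ, (∀ n ∈ N, l n = 1) ∧ ∀ g, ψ' g = (l g : ℂ) * ψ g := by
  classical
  obtain ⟨Λ, h1, -, h3, h4⟩ := CharactersDeep.AbelianQuotient.exists_linear_dual N hab
  have key : ∑ l ∈ Λ, classInner (fun g => (l g : ℂ) * ψ g) ψ' ≠ 0 := by
    rw [← classInner_sum_left]
    intro h0
    apply h
    rw [classInner_def] at h0 ⊢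
    have e1 : ∑ g : H, (∑ l ∈ Λ, fun g => (l g : ℂ) * ψ g) g * conj (ψ' g) =
        (N.index : ℂ) * ∑ n : N, ψ n * conj (ψ' n) := by
      have e2 : ∀ g : H, (∑ l ∈ Λ, fun g => (l g : ℂ) * ψ g) g * conj (ψ' g) =
          if g ∈ N then (N.index : ℂ) * (ψ g * conj (ψ' g)) else 0 := by
        intro g
        rw [Finset.sum_apply, ← Finset.sum_mul]
        split_ifs with hg
        · rw [h3 g hg, mul_assoc]
        · rw [h4 g hg, zero_mul, zero_mul]
      rw [Finset.sum_congr rfl fun g _ => e2 g, Finset.mul_sum, ← Finset.sum_filter]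
      exact (Finset.sum_subtype _ (fun x => by simp) _)
    rw [e1] at h0
    rcases mul_eq_zero.1 h0 with h5 | h5
    · exact absurd h5 (inv_ne_zero card_ne_zero_complex)
    rcases mul_eq_zero.1 h5 with h6 | h6
    · exact absurd h6 (Nat.cast_ne_zero.2 N.index_ne_zero_of_finite)
    · rw [h6, mul_zero]
  obtain ⟨l, hl, hne⟩ := Finset.exists_ne_zero_of_sum_ne_zero key
  refine ⟨l, (h1 l).1 hl, fun g => ?_⟩
  have h5 : (fun g => (l g : ℂ) * ψ g) = ψ' := by
    by_contra hcon
    exact hne (classInner_irr_ne (OddOrderCharacters.AbelianTwist.isIrr_hom_mul l hψ) hψ' hcon)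
  rw [← h5]

/-- powers of an invariant constituent -/
theorem pow_eq_of_abelian {H : Type u} [Group H] [Fintype H] (N : Subgroup H) [hN : N.Normal] [Fintype N]
    (hab : ∀ x y : H, x * y * x⁻¹ * y⁻¹ ∈ N) {k a : ℕ} (hk : k.Coprime (Nat.card H)) (hk1 : k ≡ 1 [MOD N.index])
    (hka : k ^ a ≡ 1 [MOD Nat.card H]) (ha : a.Coprime N.index) {ψ : H → ℂ} (hψ : IsIrrCharacter H ψ) {θ : N → ℂ}
    (hθ : IsIrrCharacter N θ) (ho : classInner (fun n : N => ψ n) θ ≠ 0) (hθk : ∀ n : N, θ (n ^ k) = θ n) (g : H) :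
    ψ (g ^ k) = ψ g := by
  classical
  have hψ' : IsIrrCharacter H (fun g => ψ (g ^ k)) := GaloisIrr.isIrr_pow hk hψ
  have hkN : (Nat.card N).Coprime k := (Nat.Coprime.coprime_dvd_right (Subgroup.card_subgroup_dvd_card N) hk).symm
  have ho' : classInner (fun n : N => ψ ((n : H) ^ k)) θ ≠ 0 := by
    intro h0
    apply ho
    rw [← h0, classInner_def, classInner_def]
    congr 1
    symm
    refine Fintype.sum_equiv (powCoprime hkN) _ _ fun n => ?_
    change ψ ((n : H) ^ k) * conj (θ n) = ψ ((n ^ k : N) : H) * conj (θ (n ^ k))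
    rw [hθk]
    rfl
  have hc : IsCharacter N (fun n : N => ψ n) := isCharacter_comp N.subtype (isIrr_isCharacter hψ)
  have hc' : IsCharacter N (fun n : N => ψ ((n : H) ^ k)) := isCharacter_comp N.subtype (isIrr_isCharacter hψ')
  have hne : classInner (fun n : N => ψ n) (fun n : N => ψ ((n : H) ^ k)) ≠ 0 := by
    intro h0
    have hfin : Finite (IrrCharacter N) := finite_irr
    let : Fintype (IrrCharacter N) := Fintype.ofFinite _
    choose x hx using fun χ : IrrCharacter N => classInner_isNat hc (isIrr_isCharacter χ.2)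
    obtain ⟨b, hb⟩ := exists_nat_comb hc'
    have h1 : ∀ χ : IrrCharacter N, classInner (fun n : N => ψ ((n : H) ^ k)) (χ : N → ℂ) = b χ := by
      intro χ
      rw [hb, classInner_sum_nsmul_irr]
    have h2 : ((∑ χ : IrrCharacter N, b χ * x χ : ℕ) : ℂ) = 0 := by
      rw [← h0]
      conv_rhs => rw [hb]
      rw [classInner_sum_right]
      push_cast
      refine Finset.sum_congr rfl fun χ _ => ?_
      rw [← Nat.cast_smul_eq_nsmul ℂ, classInner_smul_right, map_natCast, hx]
    have h3 : ∑ χ : IrrCharacter N, b χ * x χ = 0 := by exact_mod_cast h2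
    have h4 := (Finset.sum_eq_zero_iff.1 h3) ⟨θ, hθ⟩ (Finset.mem_univ _)
    rcases Nat.mul_eq_zero.1 h4 with h5 | h5
    · apply ho'
      have := h1 ⟨θ, hθ⟩
      rw [h5, Nat.cast_zero] at this
      exact this
    · apply ho
      have := hx ⟨θ, hθ⟩
      rw [h5, Nat.cast_zero] at this
      exact this
  obtain ⟨l, hl, hlψ⟩ := exists_twist N hab hψ hψ' hne
  have hli : ∀ x : H, (l x : ℂ) ^ N.index = 1 := by
    intro x
    rw [← Units.val_pow_eq_pow_val, ← map_pow, hl _ (Subgroup.pow_index_mem N x), Units.val_one]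
  have hlk : ∀ x : H, (l (x ^ k) : ℂ) = (l x : ℂ) := by
    intro x
    rw [map_pow, Units.val_pow_eq_pow_val]
    have h1 : IsOfFinOrder (l x : ℂ) :=
      isOfFinOrder_iff_pow_eq_one.2 ⟨N.index, Nat.pos_of_ne_zero N.index_ne_zero_of_finite, hli x⟩
    have h2 : (l x : ℂ) ^ k = (l x : ℂ) ^ 1 :=
      h1.pow_eq_pow_iff_modEq.2 (hk1.of_dvd (orderOf_dvd_of_pow_eq_one (hli x)))
    rw [h2, pow_one]
  have hit : ∀ j : ℕ, ψ (g ^ k ^ j) = (l g : ℂ) ^ j * ψ g := by
    intro j
    induction j with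
    | zero => simp
    | succ j ih =>
      rw [pow_succ k j, pow_mul]
      have h1 := hlψ (g ^ k ^ j)
      rw [h1, ih]
      have h2 : ∀ i : ℕ, (l (g ^ k ^ i) : ℂ) = (l g : ℂ) := by
        intro i
        induction i with
        | zero => simp
        | succ i ih => rw [pow_succ k i, pow_mul, hlk, ih]
      rw [h2, pow_succ]
      ring
  have h1 := hit a
  have h2 : g ^ k ^ a = g := by
    rw [pow_congr_card g hka, pow_one]
  rw [h2] at h1
  by_cases h0 : ψ g = 0
  · rw [hlψ g, h0, mul_zero]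
  · have h3 : (l g : ℂ) ^ a = 1 := by
      have h4 : ((l g : ℂ) ^ a - 1) * ψ g = 0 := by rw [sub_mul, one_mul, ← h1, sub_self]
      rcases mul_eq_zero.1 h4 with h5 | h5
      · exact sub_eq_zero.1 h5
      · exact absurd h5 h0
    have h4 : (l g : ℂ) = 1 := by
      have h5 : orderOf (l g : ℂ) ∣ Nat.gcd a N.index :=
        Nat.dvd_gcd (orderOf_dvd_of_pow_eq_one h3) (orderOf_dvd_of_pow_eq_one (hli g))
      rw [ha] at h5
      exact orderOf_eq_one_iff.1 (Nat.dvd_one.1 h5)
    rw [hlψ g, h4, one_mul]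

/-- constituents -/
theorem exists_constituent {H : Type u} [Group H] [Finite H] {χ : H → ℂ} (hχ : IsCharacter H χ) (h1 : χ 1 ≠ 0) :
    ∃ θ : H → ℂ, IsIrrCharacter H θ ∧ @classInner H _ (Fintype.ofFinite H) χ θ ≠ 0 := by
  classical
  let : Fintype H := Fintype.ofFinite H
  have hfin : Finite (IrrCharacter H) := finite_irr
  let : Fintype (IrrCharacter H) := Fintype.ofFinite _
  obtain ⟨b, hb⟩ := exists_nat_comb hχ
  by_contra hcon
  push Not at hcon
  apply h1
  rw [hb]
  rw [Finset.sum_apply]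
  refine Finset.sum_eq_zero fun θ _ => ?_
  have h2 := hcon θ θ.2
  rw [hb, classInner_sum_nsmul_irr, Nat.cast_eq_zero] at h2
  rw [h2, zero_smul, Pi.zero_apply]

/-- values at powers, from a normal subgroup -/
theorem pow_eq_of_over {G : Type u} [Group G] [Fintype G] (N : Subgroup G) [hN : N.Normal] [Fintype N] {k a : ℕ}
    (hk : k.Coprime (Nat.card G)) (hk1 : k ≡ 1 [MOD N.index]) (hka : k ^ a ≡ 1 [MOD Nat.card G]) (ha : a.Coprime N.index)
    {χ : G → ℂ} (hχ : IsIrrCharacter G χ) {θ : N → ℂ} (hθ : IsIrrCharacter N θ)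
    (ho : classInner (fun n : N => χ n) θ ≠ 0) (hθk : ∀ n : N, θ (n ^ k) = θ n) (g : G) : χ (g ^ k) = χ g := by
  classical
  -- the subgroup `H = N ⟨g⟩`
  set H : Subgroup G := N ⊔ Subgroup.zpowers g with hH
  have hNH : N ≤ H := le_sup_left
  have hgH : g ∈ H := Subgroup.mem_sup_right (Subgroup.mem_zpowers g)
  let N' : Subgroup H := N.subgroupOf H
  have : Fintype N' := Fintype.ofFinite _
  have : Fintype H := Fintype.ofFinite _
  have hN'n : N'.Normal := inferInstance
  have hab : ∀ x y : H, x * y * x⁻¹ * y⁻¹ ∈ N' := by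
    have hmem : ∀ x : H, ∃ n ∈ N, ∃ i : ℤ, (x : G) = n * g ^ i := by
      rintro ⟨x, hx⟩
      rw [hH, ← SetLike.mem_coe, Subgroup.normal_mul] at hx
      obtain ⟨n, hn, z, hz, rfl⟩ := hx
      obtain ⟨i, rfl⟩ := hz
      exact ⟨n, hn, i, rfl⟩
    intro x y
    rw [Subgroup.mem_subgroupOf]
    obtain ⟨n, hn, i, hx⟩ := hmem x
    obtain ⟨m, hm, j, hy⟩ := hmem y
    have e1 : ((x * y * x⁻¹ * y⁻¹ : H) : G) = (x : G) * y * (x : G)⁻¹ * (y : G)⁻¹ := rfl
    rw [e1, hx, hy, ← QuotientGroup.eq_one_iff]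
    have h1 : ((n : G) : G ⧸ N) = 1 := (QuotientGroup.eq_one_iff n).2 hn
    have h2 : ((m : G) : G ⧸ N) = 1 := (QuotientGroup.eq_one_iff m).2 hm
    simp only [QuotientGroup.mk_mul, QuotientGroup.mk_inv, QuotientGroup.mk_zpow, h1, h2, one_mul, mul_inv_rev]
    group
  have hidx : N'.index ∣ N.index := by
    rw [← Subgroup.relIndex_mul_index hNH]
    exact Dvd.intro _ rfl
  have hcH : Nat.card H ∣ Nat.card G := Subgroup.card_subgroup_dvd_card H
  -- the restriction of `χ` to `H`
  have hfin : Finite (IrrCharacter H) := finite_irr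
  let : Fintype (IrrCharacter H) := Fintype.ofFinite _
  have hcχ : IsCharacter H (fun x : H => χ x) := isCharacter_comp H.subtype (isIrr_isCharacter hχ)
  obtain ⟨b, hb⟩ := exists_nat_comb hcχ
  have key : ∀ η : IrrCharacter H, b η ≠ 0 → ∀ x : H, (η : H → ℂ) (x ^ k) = (η : H → ℂ) x := by
    intro η hη x
    have hcη : IsCharacter N' (fun n : N' => (η : H → ℂ) n) :=
      isCharacter_comp N'.subtype (isIrr_isCharacter η.2)
    obtain ⟨θ', hθ', hne⟩ := exists_constituent hcη (isIrr_apply_one_ne_zero η.2)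
    have hft : Fintype.ofFinite N' = (inferInstance : Fintype N') := Subsingleton.elim _ _
    rw [hft] at hne
    -- transport to `N`
    let e : N ≃* N' := (Subgroup.subgroupOfEquivOfLe hNH).symm
    have he : ∀ n : N, (((e n : N') : H) : G) = n := fun n => rfl
    have hθ'' : IsIrrCharacter N (fun n => θ' (e n)) := isIrr_comp e.toMonoidHom e.surjective hθ'
    have hover : classInner (fun n : N => χ n) (fun n => θ' (e n)) ≠ 0 := by
      have e1 : classInner (fun n : N => χ n) (fun n => θ' (e n)) =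
          classInner (fun n : N' => χ ((n : H) : G)) θ' := by
        rw [classInner_def, classInner_def, Nat.card_congr e.toEquiv]
        congr 1
        exact Fintype.sum_equiv e.toEquiv _ _ fun n => rfl
      rw [e1]
      have e2 : (fun n : N' => χ ((n : H) : G)) = ∑ ζ : IrrCharacter H, (b ζ : ℂ) • (fun n : N' => (ζ : H → ℂ) n) := by
        funext n
        have h1 := congrFun hb (n : H)
        simp only [Finset.sum_apply, Pi.smul_apply, nsmul_eq_mul, smul_eq_mul] at h1 ⊢
        exact h1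
      rw [e2, classInner_sum_left]
      have hc2 : ∀ ζ : IrrCharacter H, ∃ m : ℕ, classInner (fun n : N' => (ζ : H → ℂ) n) θ' = m := fun ζ =>
        classInner_isNat (isCharacter_comp N'.subtype (isIrr_isCharacter ζ.2)) (isIrr_isCharacter hθ')
      choose m hm using hc2
      have e3 : ∑ ζ : IrrCharacter H, classInner ((b ζ : ℂ) • (fun n : N' => (ζ : H → ℂ) n)) θ' =
          ((∑ ζ : IrrCharacter H, b ζ * m ζ : ℕ) : ℂ) := by
        push_cast
        refine Finset.sum_congr rfl fun ζ _ => ?_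
        rw [classInner_smul_left, hm]
      rw [e3, Nat.cast_ne_zero]
      intro h0
      have h4 := (Finset.sum_eq_zero_iff.1 h0) η (Finset.mem_univ _)
      rcases Nat.mul_eq_zero.1 h4 with h5 | h5
      · exact hη h5
      · apply hne
        rw [hm, h5, Nat.cast_zero]
    obtain ⟨y, hy⟩ := Clifford.exists_conj_of_constituents N hχ hθ hθ'' ho hover
    refine pow_eq_of_abelian N' hab (Nat.Coprime.coprime_dvd_right hcH hk) (hk1.of_dvd hidx) (hka.of_dvd hcH)
      (Nat.Coprime.coprime_dvd_right hidx ha) η.2 hθ' hne (fun n => ?_) x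
    have h1 : ∀ n : N, θ' (e n) = θ (MulAut.conjNormal y n) := fun n => congrFun hy n
    have h2 : n = e (e.symm n) := (e.apply_symm_apply n).symm
    rw [h2, ← map_pow, h1, h1, map_pow, hθk]
  have h1 := congrFun hb ⟨g, hgH⟩
  have h2 := congrFun hb (⟨g, hgH⟩ ^ k)
  have h3 : χ (g ^ k) = (∑ η : IrrCharacter H, b η • (η : H → ℂ)) (⟨g, hgH⟩ ^ k) := h2
  have h4 : χ g = (∑ η : IrrCharacter H, b η • (η : H → ℂ)) ⟨g, hgH⟩ := h1
  rw [h3, h4, Finset.sum_apply, Finset.sum_apply]
  refine Finset.sum_congr rfl fun η _ => ?_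
  rw [Pi.smul_apply, Pi.smul_apply]
  by_cases h0 : b η = 0
  · rw [h0, zero_smul, zero_smul]
  · rw [key η h0]

variable {p : ℕ} [hp : Fact p.Prime]

/-- an almost `p`-rational character and the exponents of an overgroup -/
theorem pow_eq_of_alm {G : Type u} [Group G] [Finite G] (N : Subgroup G) {θ : N → ℂ} (hθ : IsCharacter N θ)
    (h : Alm p θ) {u : (ZMod (Nat.card G))ˣ} (hu : u ∈ JJ p G) (n : N) : θ (n ^ ex u) = θ n := by
  have hNG : Nat.card N ∣ Nat.card G := Subgroup.card_subgroup_dvd_card N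
  have hdd : dd p N ∣ dd p G := by
    refine Nat.dvd_gcd ((Nat.gcd_dvd_left _ _).trans hNG) ((Nat.gcd_dvd_right _ _).trans ?_)
    refine mul_dvd_mul_left p ?_
    exact Nat.ordCompl_dvd_ordCompl_of_dvd hNG p
  have hco : (ex u).Coprime (Nat.card N) := Nat.Coprime.coprime_dvd_right hNG (ex_coprime u)
  let v : (ZMod (Nat.card N))ˣ := ZMod.unitOfCoprime (ex u) hco
  have h5 : ex v ≡ ex u [MOD Nat.card N] := by
    rw [← ZMod.natCast_eq_natCast_iff, ex_cast]
    rfl
  have h6 : v ∈ JJ p N := (mem_JJ v).2 ((h5.of_dvd (dd_dvd p N)).trans (((mem_JJ u).1 hu).of_dvd hdd))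
  rw [← pow_congr_card n h5]
  exact (alm_iff_fun hθ).1 h v h6 n

/-- **From a normal subgroup of index prime to `p`.** -/
theorem alm_of_over {G : Type u} [Group G] [Finite G] (N : Subgroup G) [N.Normal] (hcop : ¬ p ∣ N.index)
    (χ : IrrCharacter G) (θ : IrrCharacter N) (ho : Over N χ θ) (hθ : Alm p (θ : N → ℂ)) : Alm p (χ : G → ℂ) := by
  let : Fintype G := Fintype.ofFinite G
  let : Fintype N := Fintype.ofFinite N
  rw [alm_iff_fun (isIrr_isCharacter χ.2)]
  intro u hu g
  obtain ⟨j, hj⟩ := isPGroup_JJ (p := p) (G := G) ⟨u, hu⟩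
  have hj' : u ^ p ^ j = 1 := congrArg Subtype.val hj
  have hka : (ex u) ^ (p ^ j) ≡ 1 [MOD Nat.card G] := by
    rw [← ZMod.natCast_eq_natCast_iff, Nat.cast_pow, ex_cast, Nat.cast_one, ← Units.val_pow_eq_pow_val, hj', Units.val_one]
  have hm : N.index ∣ mp p G := by
    have h1 := Nat.ordProj_mul_ordCompl_eq_self (Nat.card G) p
    have h2 : N.index ∣ p ^ (Nat.card G).factorization p * ordCompl[p] (Nat.card G) := by
      rw [h1]
      exact N.index_dvd_card
    refine Nat.Coprime.dvd_of_dvd_mul_left ?_ h2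
    exact (Nat.Coprime.pow_left _ ((Nat.Prime.coprime_iff_not_dvd hp.out).2 hcop)).symm
  refine pow_eq_of_over N (ex_coprime u) (((mem_JJ u).1 hu).of_dvd (hm.trans (mp_dvd_dd p G))) hka
    (Nat.Coprime.pow_left _ ((Nat.Prime.coprime_iff_not_dvd hp.out).2 hcop)) χ.2 θ.2 (over_iff.1 ho)
    (fun n => pow_eq_of_alm N (isIrr_isCharacter θ.2) hθ hu n) g

/-- degrees -/
theorem not_dvd_of_over {G : Type u} [Group G] [Finite G] (N : Subgroup G) [N.Normal] (hcop : ¬ p ∣ N.index)
    (χ : IrrCharacter G) (θ : IrrCharacter N) (ho : Over N χ θ) (hθ : ¬ p ∣ charDegree (θ : N → ℂ)) :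
    ¬ p ∣ charDegree (χ : G → ℂ) := by
  let : Fintype G := Fintype.ofFinite G
  let : Fintype N := Fintype.ofFinite N
  obtain ⟨h1, h2⟩ := H596.charDegree_dvd_of_over N χ.2 θ.2 (over_iff.1 ho)
  intro h
  obtain ⟨c, hc⟩ := h1
  rw [hc] at h
  rcases (Nat.Prime.dvd_mul hp.out).1 h with h3 | h3
  · exact hθ h3
  · apply hcop
    refine h3.trans ?_
    have h4 : charDegree (θ : N → ℂ) ≠ 0 := fun h0 => hθ (h0 ▸ dvd_zero p)
    rw [hc, Nat.mul_div_cancel_left _ (Nat.pos_of_ne_zero h4)] at h2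
    exact h2

omit hp in
theorem not_dvd_of_under {G : Type u} [Group G] [Finite G] (N : Subgroup G) [N.Normal]
    (χ : IrrCharacter G) (θ : IrrCharacter N) (ho : Over N χ θ) (hχ : ¬ p ∣ charDegree (χ : G → ℂ)) :
    ¬ p ∣ charDegree (θ : N → ℂ) := by
  let : Fintype G := Fintype.ofFinite G
  let : Fintype N := Fintype.ofFinite N
  obtain ⟨h1, -⟩ := H596.charDegree_dvd_of_over N χ.2 θ.2 (over_iff.1 ho)
  exact fun h => hχ (h.trans h1)

/-- **Members of `X0` over members of `X0`.** -/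
theorem mem0_of_over {M : Ideal AlgInt} {G : Type u} [Group G] [Finite G] (N : Subgroup G) [N.Normal]
    (hcop : ¬ p ∣ N.index) (χ : IrrCharacter G) (hχ : χ ∈ principalBlock M G) (θ : IrrCharacter N) (ho : Over N χ θ)
    (hθ : Mem0 p M θ) : Mem0 p M χ :=
  ⟨hχ, not_dvd_of_over N hcop χ θ ho hθ.2.1, alm_of_over N hcop χ θ ho hθ.2.2⟩

end Cfsg.Agent.H668.XZ
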